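import Groth.Agent.Lib.KunExt22.HHRes
import Groth.Agent.Lib.HTor22.Flat
import Groth.Agent.Lib.OX.QCohFun

/-! # The Künneth formula for cohomology -/

set_option autoImplicit false
set_option linter.style.haveILetI false
set_option maxHeartbeats 2000000
set_option backward.isDefEq.respectTransparency false
universe u

open CategoryTheory CategoryTheory.Limits AlgebraicGeometry Opposite TopologicalSpace TensorProduct MonoidalCategory
open GrothLib.BCAcyc22 (AffFlat)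

attribute [local instance] HasDerivedCategory.standard

noncomputable section

namespace GrothLib.KunExt22

section Algebra

variable {A : Type u} [CommRing A] {ι : Type*} {κ : Type*}

open scoped Classical in
/-- A direct sum with terms vanishing outside finitely many indices is a finite product. -/
theorem nonempty_directSum_equiv_pi [Finite κ] {M : ι → Type u} [∀ i, AddCommGroup (M i)] [∀ i, Module A (M i)]
    {N : κ → Type u} [∀ k, AddCommGroup (N k)] [∀ k, Module A (N k)] (σ : κ → ι) (hσ : Function.Injective σ)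
    (h : ∀ i, i ∈ Set.range σ ∨ Subsingleton (M i)) (e : ∀ k, M (σ k) ≃ₗ[A] N k) :
    Nonempty (DirectSum ι M ≃ₗ[A] Π k, N k) := by
  haveI := Fintype.ofFinite κ
  let Φ : DirectSum ι M →ₗ[A] Π k, N k :=
    LinearMap.pi fun k => (e k).toLinearMap.comp (DirectSum.component A ι M (σ k))
  refine ⟨LinearEquiv.ofBijective Φ ⟨(injective_iff_map_eq_zero _).2 fun x hx => DFinsupp.ext fun i => ?_, fun y =>
    ⟨∑ k, DirectSum.lof A ι M (σ k) ((e k).symm (y k)), funext fun k => ?_⟩⟩⟩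
  · rcases h i with ⟨k, rfl⟩ | hi
    · exact (e k).map_eq_zero_iff.1 (congrFun hx k)
    · exact @Subsingleton.elim _ hi _ _
  · show e k (DirectSum.component A ι M (σ k) (∑ l, DirectSum.lof A ι M (σ l) ((e l).symm (y l)))) = y k
    rw [map_sum, Finset.sum_eq_single_of_mem k (Finset.mem_univ _)]
    · rw [DirectSum.component.lof_self, LinearEquiv.apply_symm_apply]
    · intro l _ hl
      rw [DirectSum.component.of]
      exact dif_neg fun h => hl (hσ h)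

end Algebra

variable {A : Type u} [CommRing A] {X₁ X₂ Z : Scheme.{u}}
  {f₁ : X₁ ⟶ Spec (CommRingCat.of A)} {f₂ : X₂ ⟶ Spec (CommRingCat.of A)} {p₁ : Z ⟶ X₁} {p₂ : Z ⟶ X₂}
  (sq : IsPullback p₂ p₁ f₂ f₁)

theorem affFlat_of_isZero {F : X₁.Modules} (h : IsZero F) : AffFlat f₁ F := fun V _ => by
  haveI : Subsingleton (BCCoh.secA f₁ F V) := ModuleCat.subsingleton_of_isZero ((secFun f₁ V).map_isZero h)
  infer_instance

theorem affFlat_of_iso {F G : X₁.Modules} (e : F ≅ G) (h : AffFlat f₁ G) : AffFlat f₁ F := fun V hV =>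
  haveI : Module.Flat A ((secFun f₁ V).obj G) := h V hV
  Module.Flat.of_linearEquiv ((secFun f₁ V).mapIso e).toLinearEquiv

theorem isZero_bicx_X {C₁ C₂ C : Type*} [Category C₁] [Preadditive C₁] [Category C₂] [Preadditive C₂]
    [Category C] [Preadditive C] [HasZeroObject C] [∀ J : Type, HasColimitsOfShape (Discrete J) C]
    (Ψ : C₁ ⥤ C₂ ⥤ C) [Ψ.Additive] [∀ M, (Ψ.obj M).Additive] (P : CochainComplex C₁ ℤ) (Q : CochainComplex C₂ ℤ)
    (n : ℤ) (h : ∀ p q : ℤ, p + q = n → IsZero (P.X p) ∨ IsZero (Q.X q)) :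
    IsZero (((((Ψ.mapBifunctorHomologicalComplex (ComplexShape.up ℤ) (ComplexShape.up ℤ)).obj P).obj Q).total
      (ComplexShape.up ℤ)).X n) := by
  rw [IsZero.iff_id_eq_zero]
  refine HomologicalComplex₂.total.hom_ext _ fun p q hpq => ?_
  refine IsZero.eq_of_src ?_ _ _
  rcases h p q hpq with h | h
  · exact (Ψ.map_isZero h).obj (Q.X q)
  · exact (Ψ.obj (P.X p)).map_isZero h

open scoped Classical in
/-- The total of two complexes concentrated in degree zero. -/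
theorem nonempty_total_iso {C₁ C₂ C : Type*} [Category C₁] [Preadditive C₁] [Category C₂] [Preadditive C₂]
    [Category C] [Preadditive C] [HasZeroObject C] [∀ J : Type, HasColimitsOfShape (Discrete J) C]
    (Ψ : C₁ ⥤ C₂ ⥤ C) [Ψ.Additive] [∀ M, (Ψ.obj M).Additive] (P : CochainComplex C₁ ℤ) (Q : CochainComplex C₂ ℤ)
    (hP : ∀ i, i ≠ 0 → IsZero (P.X i)) :
    Nonempty (((((Ψ.mapBifunctorHomologicalComplex (ComplexShape.up ℤ) (ComplexShape.up ℤ)).obj P).obj Q).total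
      (ComplexShape.up ℤ)).X 0 ≅ (Ψ.obj (P.X 0)).obj (Q.X 0)) := by
  let B := ((Ψ.mapBifunctorHomologicalComplex (ComplexShape.up ℤ) (ComplexShape.up ℤ)).obj P).obj Q
  let π : (B.total (ComplexShape.up ℤ)).X 0 ⟶ (B.X 0).X 0 := B.totalDesc fun p q h =>
    if hp : p = 0 then eqToHom (by
      subst hp
      have h' : (0 : ℤ) + q = 0 := h
      rw [show q = 0 by omega]) else 0
  refine ⟨⟨π, B.ιTotal (ComplexShape.up ℤ) 0 0 0 (zero_add 0), HomologicalComplex₂.total.hom_ext _ fun p q h => ?_,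
    ?_⟩⟩
  · have h' : p + q = 0 := h
    by_cases hp : p = 0
    · subst hp
      obtain rfl : q = 0 := by omega
      simp only [π]
      erw [HomologicalComplex₂.ι_totalDesc_assoc]
      simp
      exact Category.id_comp _
    · exact ((Ψ.map_isZero (hP p hp)).obj (Q.X q)).eq_of_src _ _
  · simp [π]
    rfl

variable [QuasiCompact f₁] [IsAffineHom (pullback.diagonal f₁)] [QuasiCompact f₂] [IsAffineHom (pullback.diagonal f₂)]

include sq in
/-- **The Künneth formula**, linearly over the base. -/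
theorem nonempty_kunneth (F₁ : X₁.Modules) (hq₁ : Coh.IsQCoh F₁) (hfl : AffFlat f₁ F₁) (F₂ : X₂.Modules)
    (hq₂ : Coh.IsQCoh F₂)
    (hH : ∀ p : ℕ, letI := BCCoh.modHH f₁ F₁ p; Module.Flat A (Coh.HH X₁ F₁ p))
    (n : ℕ) {κ : Type*} [Finite κ] (a b : κ → ℕ) (hab : ∀ k, a k + b k = n)
    (hinj : ∀ k l, a k = a l → k = l) (hsurj : ∀ i j, i + j = n → ∃ k, a k = i) :
    letI : ∀ p, Module A (Coh.HH X₁ F₁ p) := BCCoh.modHH f₁ F₁
    letI : ∀ q, Module A (Coh.HH X₂ F₂ q) := BCCoh.modHH f₂ F₂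
    letI : Module A (Coh.HH Z (ext p₁ p₂ F₁ F₂) n) := BCCoh.modHH (p₁ ≫ f₁) (ext p₁ p₂ F₁ F₂) n
    Nonempty ((Π k : κ, Coh.HH X₁ F₁ (a k) ⊗[A] Coh.HH X₂ F₂ (b k)) ≃ₗ[A] Coh.HH Z (ext p₁ p₂ F₁ F₂) n) := by
  letI : ∀ p, Module A (Coh.HH X₁ F₁ p) := BCCoh.modHH f₁ F₁
  letI : ∀ q, Module A (Coh.HH X₂ F₂ q) := BCCoh.modHH f₂ F₂
  letI : Module A (Coh.HH Z (ext p₁ p₂ F₁ F₂) n) := BCCoh.modHH (p₁ ≫ f₁) (ext p₁ p₂ F₁ F₂) n
  obtain ⟨m₁, U₁, hU₁, hcov₁⟩ := exists_finite_cover f₁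
  obtain ⟨m₂, U₂, hU₂, hcov₂⟩ := exists_finite_cover f₂
  let P₁ := (HomologicalComplex.single X₁.Modules (ComplexShape.up ℤ) 0).obj F₁
  let P₂ := (HomologicalComplex.single X₂.Modules (ComplexShape.up ℤ) 0).obj F₂
  have hz₁ : ∀ i : ℤ, i ≠ 0 → IsZero (P₁.X i) := fun i hi => HomologicalComplex.isZero_single_obj_X _ _ _ _ hi
  have hz₂ : ∀ i : ℤ, i ≠ 0 → IsZero (P₂.X i) := fun i hi => HomologicalComplex.isZero_single_obj_X _ _ _ _ hi
  let e₁ : P₁.X 0 ≅ F₁ := HomologicalComplex.singleObjXSelf _ _ _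
  let e₂ : P₂.X 0 ≅ F₂ := HomologicalComplex.singleObjXSelf _ _ _
  have hqP₁ : ∀ i, Coh.IsQCoh (P₁.X i) := fun i => by
    rcases eq_or_ne i 0 with rfl | hi
    · haveI : F₁.IsQuasicoherent := hq₁
      exact QCoh.isQuasicoherent_of_iso (M := F₁) e₁.symm
    · exact OX.isQCoh_of_isZero (hz₁ i hi)
  have hqP₂ : ∀ i, Coh.IsQCoh (P₂.X i) := fun i => by
    rcases eq_or_ne i 0 with rfl | hi
    · haveI : F₂.IsQuasicoherent := hq₂
      exact QCoh.isQuasicoherent_of_iso (M := F₂) e₂.symm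
    · exact OX.isQCoh_of_isZero (hz₂ i hi)
  have hflP₁ : ∀ i, AffFlat f₁ (P₁.X i) := fun i => by
    rcases eq_or_ne i 0 with rfl | hi
    · exact affFlat_of_iso e₁ hfl
    · exact affFlat_of_isZero (hz₁ i hi)
  obtain ⟨-, T₁, v₁, -, hT₁, hlo₁, hhi₁, hv₁, -⟩ := BCAcyc22.exists_acyclic f₁ m₁ U₁ hU₁ hcov₁ True P₁ hqP₁
    (fun _ => hflP₁) (D := X₁.Modules)
  obtain ⟨-, T₂, v₂, -, hT₂, hlo₂, hhi₂, hv₂, -⟩ := BCAcyc22.exists_acyclic f₂ m₂ U₂ hU₂ hcov₂ False P₂ hqP₂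
    (fun h => h.elim) (D := X₂.Modules)
  haveI := hv₁
  haveI := hv₂
  have n₁ : ∀ i, i < 0 → IsZero (T₁.X i) := hlo₁ 0 fun i hi => hz₁ i hi.ne
  have n₂ : ∀ i, i < 0 → IsZero (T₂.X i) := hlo₂ 0 fun i hi => hz₂ i hi.ne
  have bT₁ : ∀ i : ℤ, 0 + (m₁ : ℤ) < i → IsZero (T₁.X i) := hhi₁ 0 fun i hi => hz₁ i hi.ne'
  have bT₂ : ∀ i : ℤ, 0 + (m₂ : ℤ) < i → IsZero (T₂.X i) := hhi₂ 0 fun i hi => hz₂ i hi.ne'
  let P := (bicx (extBi p₁ p₂) P₁ P₂).total (ComplexShape.up ℤ)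
  let T := (bicx (extBi p₁ p₂) T₁ T₂).total (ComplexShape.up ℤ)
  haveI hE : QuasiIso (extMap (p₁ := p₁) (p₂ := p₂) v₁ v₂) :=
    quasiIso_extMap sq v₁ v₂ hqP₁ (fun n => (hT₁ n).1) hqP₂ (fun n => (hT₂ n).1) hflP₁
      (fun n => (hT₁ n).2.1 trivial) (0 + m₁) (0 + m₂) (fun i hi => hz₁ i (by omega)) bT₁
      (fun i hi => hz₂ i (by omega)) bT₂
  haveI : IsAffineHom (pullback.diagonal (terminal.from X₁)) := AffDiag22.affineDiag_terminal f₁
  haveI : IsAffineHom (pullback.diagonal (terminal.from X₂)) := AffDiag22.affineDiag_terminal f₂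
  let V₁ : ULift.{u} (Fin (m₁ + 1)) → X₁.Opens := fun i => U₁ i.down
  let V₂ : ULift.{u} (Fin (m₂ + 1)) → X₂.Opens := fun i => U₂ i.down
  have hV₁ : iSup V₁ = ⊤ := by rw [← hcov₁]; exact Equiv.ulift.iSup_comp (g := U₁)
  have hV₂ : iSup V₂ = ⊤ := by rw [← hcov₂]; exact Equiv.ulift.iSup_comp (g := U₂)
  have hvan : ∀ p q, Cohom.VanishFrom (Coh.toAb (ext p₁ p₂ (T₁.X p) (T₂.X q))) ⊤ 1 := fun p q =>
    vanish_ext sq V₁ (fun i => hU₁ _) hV₁ V₂ (fun i => hU₂ _) hV₂ _ (hT₁ p).1 ((hT₁ p).2.1 trivial) (hT₁ p).2.2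
      _ (hT₂ q).1 (hT₂ q).2.2
  have hvT : ∀ k, Cohom.VanishFrom (Coh.toAb (T.X k)) ⊤ 1 :=
    vanishFrom_total _ ⊤ 1 (finite_of_bounded_above _ (0 + m₁) (0 + m₂) fun p q h => by
      rcases h with h | h
      · exact ((extBi p₁ p₂).map_isZero (bT₁ p h)).obj (T₂.X q)
      · exact ((extBi p₁ p₂).obj (T₁.X p)).map_isZero (bT₂ q h)) hvan
  have nT : ∀ i, i < 0 → IsZero (T.X i) := fun i hi => isZero_bicx_X (extBi p₁ p₂) T₁ T₂ i fun p q h =>
    (lt_or_ge p 0).imp (n₁ p) fun hp => n₂ q (by omega)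
  have zP : ∀ i, i ≠ 0 → IsZero (P.X i) := fun i hi => isZero_bicx_X (extBi p₁ p₂) P₁ P₂ i fun p q h =>
    (eq_or_ne p 0).elim (fun hp => Or.inr (hz₂ q (by omega))) fun hp => Or.inl (hz₁ p hp)
  obtain ⟨eP⟩ := nonempty_total_iso (extBi p₁ p₂) P₁ P₂ hz₁
  let eP0 : P.X 0 ≅ ext p₁ p₂ F₁ F₂ := eP ≪≫ ((extBi p₁ p₂).mapIso e₁).app (P₂.X 0) ≪≫
    ((extBi p₁ p₂).obj F₁).mapIso e₂
  obtain ⟨⟨z₁⟩, x₁⟩ := resolution_of_quasiIso F₁ P₁ T₁ e₁ hz₁ v₁ n₁
  obtain ⟨⟨z₂⟩, x₂⟩ := resolution_of_quasiIso F₂ P₂ T₂ e₂ hz₂ v₂ n₂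
  obtain ⟨⟨z⟩, x⟩ := resolution_of_quasiIso (ext p₁ p₂ F₁ F₂) P T eP0 zP (extMap v₁ v₂) nT
  -- the complexes of global sections
  let G₁ := ((secFun f₁ ⊤).mapHomologicalComplex (ComplexShape.up ℤ)).obj T₁
  let G₂ := ((secFun f₂ ⊤).mapHomologicalComplex (ComplexShape.up ℤ)).obj T₂
  let hh₁ : ∀ i : ℕ, G₁.homology (i : ℤ) ≃ₗ[A] Coh.HH X₁ F₁ i := fun i =>
    (nonempty_homology_equiv_HH f₁ F₁ T₁ n₁ z₁ x₁ (fun k => (hT₁ k).2.2) i).some
  let hh₂ : ∀ i : ℕ, G₂.homology (i : ℤ) ≃ₗ[A] Coh.HH X₂ F₂ i := fun i =>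
    (nonempty_homology_equiv_HH f₂ F₂ T₂ n₂ z₂ x₂ (fun k => (hT₂ k).2.2) i).some
  let hh : (((secFun (p₁ ≫ f₁) ⊤).mapHomologicalComplex (ComplexShape.up ℤ)).obj T).homology (n : ℤ) ≃ₗ[A]
      Coh.HH Z (ext p₁ p₂ F₁ F₂) n :=
    (nonempty_homology_equiv_HH (p₁ ≫ f₁) (ext p₁ p₂ F₁ F₂) T nT z x hvT n).some
  have hneg₁ : ∀ i : ℤ, i < 0 → Subsingleton (G₁.homology i) := fun i hi =>
    ModuleCat.subsingleton_of_isZero ((HomologicalComplex.exactAt_iff_isZero_homology _ _).1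
      (HomologicalComplex.ExactAt.of_isZero ((secFun f₁ ⊤).map_isZero (n₁ i hi))))
  have hneg₂ : ∀ i : ℤ, i < 0 → Subsingleton (G₂.homology i) := fun i hi =>
    ModuleCat.subsingleton_of_isZero ((HomologicalComplex.exactAt_iff_isZero_homology _ _).1
      (HomologicalComplex.ExactAt.of_isZero ((secFun f₂ ⊤).map_isZero (n₂ i hi))))
  have hflH : ∀ i : ℤ, Module.Flat A (G₁.homology i) := fun i => by
    rcases lt_or_ge i 0 with hi | hi
    · haveI := hneg₁ i hi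
      infer_instance
    · obtain ⟨p, rfl⟩ := Int.eq_ofNat_of_zero_le hi
      haveI := hH p
      exact Module.Flat.of_linearEquiv (hh₁ p)
  have hfG : DRing.TermwiseFlat G₁ := fun k =>
    haveI : (T₁.X k).IsQuasicoherent := (hT₁ k).1
    flat_secTop f₁ V₁ (T₁.X k) hV₁ (fun n a => IsAffineOpen.iInf fun k => hU₁ _) ((hT₁ k).2.1 trivial) (hT₁ k).2.2
  have hK : IsIso (pairMap (extBi p₁ p₂) (secFun f₁ ⊤) (secFun f₂ ⊤) (secFun (p₁ ≫ f₁) ⊤)
      (kap sq le_top le_top) (kap_left sq le_top le_top) (kap_right sq le_top le_top) T₁ T₂) :=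
    isIso_pairMap _ _ _ _ _ _ _ T₁ T₂ (0 + m₁) (0 + m₂) bT₁ bT₂ fun p q => by
      haveI : (T₁.X p).IsQuasicoherent := (hT₁ p).1
      haveI : (T₂.X q).IsQuasicoherent := (hT₂ q).1
      rw [ConcreteCategory.isIso_iff_bijective]
      exact bijective_kappa_top sq (T₁.X p) (T₂.X q) V₁ V₂ hV₁ (fun n a => IsAffineOpen.iInf fun k => hU₁ _)
        hV₂ (fun n a => IsAffineOpen.iInf fun k => hU₂ _) ((hT₁ p).2.1 trivial) (hT₁ p).2.2
  haveI := hK
  let eK : HTor.tensorCx G₁ G₂ ≅ ((secFun (p₁ ≫ f₁) ⊤).mapHomologicalComplex (ComplexShape.up ℤ)).obj T :=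
    asIso (pairMap (extBi p₁ p₂) (secFun f₁ ⊤) (secFun f₂ ⊤) (secFun (p₁ ≫ f₁) ⊤)
      (kap sq le_top le_top) (kap_left sq le_top le_top) (kap_right sq le_top le_top) T₁ T₂)
  have hb := HTor22.kunneth_bijective_of_flat (L := G₁) (M := G₂) hfG
    ⟨0 + m₁, fun i hi => (secFun f₁ ⊤).map_isZero (bT₁ i hi)⟩
    ⟨0 + m₂, fun i hi => (secFun f₂ ⊤).map_isZero (bT₂ i hi)⟩ hflH n
  let σ : κ → HTor.Antidiag (n : ℤ) := fun k => ⟨((a k : ℤ), (b k : ℤ)), by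
    show (a k : ℤ) + b k = n
    exact_mod_cast hab k⟩
  obtain ⟨eπ⟩ := nonempty_directSum_equiv_pi (A := A)
    (M := fun ij : HTor.Antidiag (n : ℤ) => G₁.homology ij.1.1 ⊗[A] G₂.homology ij.1.2) σ
    (fun k l h => hinj k l (Int.ofNat.inj (congrArg (fun t : HTor.Antidiag (n : ℤ) => t.1.1) h)))
    (fun ij => by
      obtain ⟨⟨i, j⟩, hij⟩ := ij
      rcases lt_or_ge i 0 with hi | hi
      · haveI := hneg₁ i hi
        exact Or.inr inferInstance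
      rcases lt_or_ge j 0 with hj | hj
      · haveI := hneg₂ j hj
        exact Or.inr inferInstance
      obtain ⟨p, rfl⟩ := Int.eq_ofNat_of_zero_le hi
      obtain ⟨q, rfl⟩ := Int.eq_ofNat_of_zero_le hj
      have hij' : (p : ℤ) + q = n := hij
      obtain ⟨k, rfl⟩ := hsurj p q (by omega)
      refine Or.inl ⟨k, Subtype.ext (Prod.ext rfl ?_)⟩
      have := hab k
      show (b k : ℤ) = q
      have h' : (a k : ℤ) + q = n := hij
      omega)
    fun k => TensorProduct.congr (hh₁ (a k)) (hh₂ (b k))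
  exact ⟨eπ.symm ≪≫ₗ LinearEquiv.ofBijective (HTor22.kunneth G₁ G₂ (n : ℤ)) hb ≪≫ₗ
    ((HomologicalComplex.homologyFunctor (ModuleCat.{u} A) (ComplexShape.up ℤ) (n : ℤ)).mapIso eK).toLinearEquiv ≪≫ₗ
    hh⟩

end GrothLib.KunExt22
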