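import Groth.Agent.Lib.KunExt22.Totals
import Groth.Agent.Lib.BCAcyc22.CechStep
import Groth.Agent.Lib.QCoh.Abelian

/-! # Terms of totals; tensor products of quasi-isomorphisms -/

set_option autoImplicit false
set_option maxHeartbeats 800000
universe u

open CategoryTheory CategoryTheory.Limits AlgebraicGeometry HomologicalComplex MonoidalCategory

namespace GrothLib.KunExt22

variable {X : Scheme.{u}} [∀ J : Type, HasColimitsOfShape (Discrete J) X.Modules]
  (B : HomologicalComplex₂ X.Modules (ComplexShape.up ℤ) (ComplexShape.up ℤ))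

theorem isQCoh_total (h : ∀ p q, Coh.IsQCoh ((B.X p).X q)) (n : ℤ) :
    Coh.IsQCoh ((B.total (ComplexShape.up ℤ)).X n) := by
  let g := GradedObject.mapObjFun B.toGradedObject
      (ComplexShape.π (ComplexShape.up ℤ) (ComplexShape.up ℤ) (ComplexShape.up ℤ)) n
  let g' := fun x : ULift.{u} _ => g x.down
  haveI : (∐ g').IsQuasicoherent := QCoh.isQuasicoherent_colimit (Discrete.functor g') fun x => h _ _
  haveI : HasCoproduct g := inferInstance
  exact QCoh.isQuasicoherent_of_iso (M := ∐ g')
    (Sigma.whiskerEquiv (f := g') (g := g) Equiv.ulift fun _ => Iso.refl _)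

theorem vanishFrom_total (U : X.Opens) (d : ℕ) (hB : ∀ n, ∃ s : Finset ℤ, ∀ p, p ∉ s → IsZero ((B.X p).X (n - p)))
    (h : ∀ p q, Cohom.VanishFrom (Coh.toAb ((B.X p).X q)) U d) (n : ℤ) :
    Cohom.VanishFrom (Coh.toAb ((B.total (ComplexShape.up ℤ)).X n)) U d := by
  classical
  obtain ⟨s, hs⟩ := hB n
  let π : ∀ p, (B.total (ComplexShape.up ℤ)).X n ⟶ (B.X p).X (n - p) := fun p =>
    B.totalDesc fun p' q h => if hp : p' = p then eqToHom (by
      subst hp
      have h' : p' + q = n := h
      rw [show q = n - p' by omega]) else 0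
  refine BCAcyc22.vanishFrom_of_biproduct (ι := s) (fun p => (B.X p.1).X (n - p.1)) _ (fun p => π p.1)
    (fun p => B.ιTotal (ComplexShape.up ℤ) p.1 (n - p.1) n (show p.1 + (n - p.1) = n by omega)) ?_ U d
    fun p => h _ _
  refine (Finset.sum_coe_sort s (fun p => π p ≫ B.ιTotal (ComplexShape.up ℤ) p (n - p) n
    (show p + (n - p) = n by omega))).trans ?_
  refine HomologicalComplex₂.total.hom_ext _ fun p q h => ?_
  have h' : p + q = n := h
  obtain rfl : q = n - p := by omega
  by_cases hp : p ∈ s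
  · rw [Preadditive.comp_sum, Finset.sum_eq_single_of_mem p hp]
    · simp [π]
    · intro b _ hb
      simp [π, Ne.symm hb]
      try rfl
  · exact (hs p hp).eq_of_src _ _

theorem mapBifunctorMap_eq_comp {A : Type u} [CommRing A] {K K' Q Q' : DRing.Cx A} (u : K ⟶ K') (w : Q ⟶ Q') :
    HomologicalComplex.tensorHom u w =
      HomologicalComplex.tensorHom u (𝟙 Q) ≫ HomologicalComplex.tensorHom (𝟙 K') w := by
  refine HomologicalComplex.hom_ext _ _ fun n => HomologicalComplex.mapBifunctor.hom_ext fun p q h => ?_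
  simp [HomologicalComplex.tensorHom, ← MonoidalCategory.tensorHom_def]

/-- Tensor products of quasi-isomorphisms between bounded above complexes, flat on the left. -/
theorem quasiIso_tensorHom {A : Type u} [CommRing A] {K K' Q Q' : DRing.Cx A} (u : K ⟶ K') (w : Q ⟶ Q')
    [QuasiIso u] [QuasiIso w] (hK : DRing.TermwiseFlat K) (hK' : DRing.TermwiseFlat K')
    (bK : ∃ b, DRing.VanishesAbove K b) (bK' : ∃ b, DRing.VanishesAbove K' b) :
    QuasiIso (HomologicalComplex.tensorHom u w) := by
  haveI h1 := quasiIso_tensor_flat u hK hK' bK bK' Q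
  obtain ⟨b', hb'⟩ := bK'
  haveI h2 : QuasiIso (HomologicalComplex.tensorHom (𝟙 K') w) :=
    KF.quasiIso_tensor_map_of_isKFlat w K' (KF.isKFlat_of_vanishesAbove hb' hK')
  rw [mapBifunctorMap_eq_comp]
  exact quasiIso_comp _ _

end GrothLib.KunExt22
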