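import Groth.Agent.Lib.KunExt22.Kappa

/-! # Global sections of external tensor products -/

set_option autoImplicit false
set_option linter.style.haveILetI false
set_option maxHeartbeats 1000000
universe u

open CategoryTheory AlgebraicGeometry Opposite TopologicalSpace TensorProduct
open GrothLib.BCCoh (secA resA appA cx cxX cxd W)
open GrothLib.BCAcyc22 (augA AffFlat)

noncomputable section

namespace GrothLib.KunExt22

section Algebra

variable {A : Type u} [CommRing A] {ι κ : Type u} [Finite ι] [Finite κ] {M : ι → Type u} {N : κ → Type u}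
  [∀ a, AddCommGroup (M a)] [∀ a, Module A (M a)] [∀ b, AddCommGroup (N b)] [∀ b, Module A (N b)]
  {P : ι → κ → Type u} [∀ a b, AddCommGroup (P a b)] [∀ a b, Module A (P a b)]

/-- Pairings of finite products, component by component. -/
def piPair (φ : ∀ a b, M a ⊗[A] N b →ₗ[A] P a b) :
    (∀ a, M a) ⊗[A] (∀ b, N b) →ₗ[A] ∀ q : ι × κ, P q.1 q.2 :=
  LinearMap.pi fun q => (φ q.1 q.2).comp (TensorProduct.map (LinearMap.proj q.1) (LinearMap.proj q.2))

theorem bijective_piPair (φ : ∀ a b, M a ⊗[A] N b →ₗ[A] P a b) (h : ∀ a b, Function.Bijective (φ a b)) :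
    Function.Bijective (piPair φ) := by
  classical
  haveI := Fintype.ofFinite ι
  haveI := Fintype.ofFinite κ
  let e₁ : (∀ a, M a) ⊗[A] (∀ b, N b) ≃ₗ[A] ∀ b, ∀ a, P a b :=
    (TensorProduct.piRight A A (∀ a, M a) N).trans (LinearEquiv.piCongrRight fun b =>
      (TensorProduct.comm A (∀ a, M a) (N b)).trans ((TensorProduct.piRight A A (N b) M).trans
        (LinearEquiv.piCongrRight fun a =>
          (TensorProduct.comm A (N b) (M a)).trans (LinearEquiv.ofBijective (φ a b) (h a b)))))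
  have he : ∀ z q, piPair φ z q = e₁ z q.2 q.1 := fun z q => by
    induction z using TensorProduct.induction_on with
    | zero => simp only [map_zero]; rfl
    | tmul x y => rfl
    | add x y hx hy => simp only [map_add, Pi.add_apply, hx, hy]
  refine ⟨fun z w hzw => e₁.injective (funext fun b => funext fun a => ?_), fun v => ?_⟩
  · exact ((he z (a, b)).symm.trans (congrFun hzw (a, b))).trans (he w (a, b))
  · obtain ⟨z, hz⟩ := e₁.surjective fun b a => v (a, b)
    exact ⟨z, funext fun q => (he z q).trans (congrFun (congrFun hz q.2) q.1)⟩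

end Algebra

section Flat

variable {A : Type u} [CommRing A] {X : Scheme.{u}} (f : X ⟶ Spec (CommRingCat.of A)) [QuasiCompact f]
  [IsAffineHom (Limits.pullback.diagonal f)] {ι : Type u} [Finite ι] (U : ι → X.Opens) (F : X.Modules) [F.IsQuasicoherent]
  (hcov : iSup U = ⊤) (haff : ∀ (n : ℕ) (a : Fin (n + 1) → ι), IsAffineOpen (⨅ k, U (a k)))
  (hfl : AffFlat f F) (hv : Cohom.VanishFrom (Coh.toAb F) ⊤ 1)

include hcov haff hfl hv in
/-- Global sections of a flat module without higher cohomology are flat. -/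
theorem flat_secTop : Module.Flat A (secA f F ⊤) := by
  haveI := BCAcyc22.flat_cx_of_affFlat f U F hfl haff 0
  haveI := BCAcyc22.flat_cx_of_affFlat f U F hfl haff 1
  haveI := BCAcyc22.flat_coker_cx f U F hcov haff hfl hv 0
  haveI : Module.Flat A (LinearMap.range ((cx f U F).d 0 1).hom) :=
    haveI := BCAcyc22.flat_ker_of_flat (LinearMap.range ((cx f U F).d 0 1).hom).mkQ (Submodule.mkQ_surjective _)
    Module.Flat.of_linearEquiv (LinearEquiv.ofEq _ _
      (LinearMap.range ((cx f U F).d 0 1).hom).ker_mkQ.symm)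
  haveI := BCAcyc22.flat_ker_of_flat ((cx f U F).d 0 1).hom.rangeRestrict (LinearMap.surjective_rangeRestrict _)
  refine Module.Flat.of_linearEquiv ((LinearEquiv.ofInjective _ (BCAcyc22.injective_augA f F U hcov)).trans
    (LinearEquiv.ofEq _ (LinearMap.ker ((cx f U F).d 0 1).hom.rangeRestrict) ?_))
  rw [LinearMap.ker_rangeRestrict]
  exact (LinearMap.exact_iff.1 (BCAcyc22.exact_augA f F U hcov)).symm

include hcov haff hfl hv in
theorem rTensor_augA_injective (N : Type u) [AddCommGroup N] [Module A N] :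
    Function.Injective ((augA f F U).rTensor N) := by
  haveI := BCAcyc22.flat_cx_of_affFlat f U F hfl haff 1
  haveI := BCAcyc22.flat_coker_cx f U F hcov haff hfl hv 0
  exact (LinearMap.lTensor_inj_iff_rTensor_inj N _).1 (BCAcyc22.lTensor_injective_of_flat_coker _ _
    (BCAcyc22.injective_augA f F U hcov) (BCAcyc22.exact_augA f F U hcov) N)

include hcov haff hfl hv in
theorem exact_rTensor_augA (N : Type u) [AddCommGroup N] [Module A N] :
    Function.Exact ((augA f F U).rTensor N) ((cxd f U F 0).hom.rTensor N) := by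
  haveI := BCAcyc22.flat_coker_cx f U F hcov haff hfl hv 0
  have h := BCAcyc22.exact_lTensor_of_flat_coker _ _ (BCAcyc22.exact_augA f F U hcov) N
  rw [BCCoh.cx_d] at h
  have e : ∀ {P Q : Type u} [AddCommGroup P] [Module A P] [AddCommGroup Q] [Module A Q] (φ : P →ₗ[A] Q) (z : P ⊗[A] N),
      φ.rTensor N z = TensorProduct.comm A N Q (φ.lTensor N (TensorProduct.comm A P N z)) := by
    intro P Q _ _ _ _ φ z
    induction z using TensorProduct.induction_on with
    | zero => simp only [map_zero]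
    | tmul p n => rfl
    | add x y hx hy => simp only [map_add, hx, hy]
  intro y
  constructor
  · intro hy
    obtain ⟨w, hw⟩ := (h (TensorProduct.comm A _ N y)).1 ((TensorProduct.comm A N _).injective
      (((e _ y).symm.trans hy).trans (map_zero _).symm))
    refine ⟨(TensorProduct.comm A _ N).symm w, (e _ _).trans ?_⟩
    rw [LinearEquiv.apply_symm_apply, hw]
    exact LinearEquiv.symm_apply_apply (TensorProduct.comm A _ N) y
  · rintro ⟨w, rfl⟩
    have hc : ((cxd f U F 0).hom).comp (augA f F U) = 0 := by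
      have := (BCAcyc22.exact_augA f F U hcov).linearMap_comp_eq_zero
      rwa [BCCoh.cx_d] at this
    exact LinearMap.congr_fun ((LinearMap.rTensor_comp N _ _).symm.trans
      ((congrArg (LinearMap.rTensor N) hc).trans (LinearMap.rTensor_zero N))) w

end Flat

variable {A : Type u} [CommRing A] {X₁ X₂ Z : Scheme.{u}}
  {f₁ : X₁ ⟶ Spec (CommRingCat.of A)} {f₂ : X₂ ⟶ Spec (CommRingCat.of A)} {p₁ : Z ⟶ X₁} {p₂ : Z ⟶ X₂}
  (sq : IsPullback p₂ p₁ f₂ f₁) (G : X₁.Modules) (F : X₂.Modules)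
  {ι κ : Type u} [Finite ι] [Finite κ] (U : ι → X₁.Opens) (V : κ → X₂.Opens)

/-- The product opens. -/
abbrev box (p₁ : Z ⟶ X₁) (p₂ : Z ⟶ X₂) {n m : ℕ} (q : (Fin (n + 1) → ι) × (Fin (m + 1) → κ)) : Z.Opens :=
  p₁ ⁻¹ᵁ W U q.1 ⊓ p₂ ⁻¹ᵁ W V q.2

/-- The pairing of Čech cochains. -/
def theta₂ (n m : ℕ) : cxX f₁ U G n ⊗[A] cxX f₂ V F m →ₗ[A]
    ∀ q : (Fin (n + 1) → ι) × (Fin (m + 1) → κ), secA (p₁ ≫ f₁) (ext p₁ p₂ G F) (box U V p₁ p₂ q) :=
  piPair (P := fun a b => secA (p₁ ≫ f₁) (ext p₁ p₂ G F) (box U V p₁ p₂ (a, b)))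
    fun _ _ => kappa sq G F inf_le_left inf_le_right

theorem theta₂_tmul (n m : ℕ) (x : cxX f₁ U G n) (y : cxX f₂ V F m)
    (q : (Fin (n + 1) → ι) × (Fin (m + 1) → κ)) :
    theta₂ sq G F U V n m (x ⊗ₜ y) q = kappa sq G F inf_le_left inf_le_right (x q.1 ⊗ₜ y q.2) := rfl

theorem bijective_theta₂ [G.IsQuasicoherent] [F.IsQuasicoherent]
    (haU : ∀ (n : ℕ) (a : Fin (n + 1) → ι), IsAffineOpen (⨅ k, U (a k)))
    (haV : ∀ (n : ℕ) (a : Fin (n + 1) → κ), IsAffineOpen (⨅ k, V (a k))) (n m : ℕ) :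
    Function.Bijective (theta₂ sq G F U V n m) :=
  bijective_piPair _ fun a b => bijective_kappa sq G F (BCCoh.isAffineOpen_W U haU a)
    (BCCoh.isAffineOpen_W V haV b) rfl

theorem theta₂_augA (z : secA f₁ G ⊤ ⊗[A] secA f₂ F ⊤) (q : (Fin 1 → ι) × (Fin 1 → κ)) :
    theta₂ sq G F U V 0 0 (TensorProduct.map (augA f₁ G U) (augA f₂ F V) z) q =
      resA (p₁ ≫ f₁) (ext p₁ p₂ G F) le_top
        (kappa sq G F (W := ⊤) (U := ⊤) (V := ⊤) le_top le_top z) := by
  rw [kappa_res sq G F le_top le_top (le_top : W U q.1 ≤ ⊤) (le_top : W V q.2 ≤ ⊤) inf_le_left inf_le_right]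
  induction z using TensorProduct.induction_on with
  | zero => simp only [map_zero]; rfl
  | tmul x y => rfl
  | add x y hx hy =>
    refine ((congrArg (fun t => theta₂ sq G F U V 0 0 t q) (map_add _ x y)).trans
      (congrFun (map_add _ _ _) q)).trans ((congrArg₂ (· + ·) hx hy).trans ?_)
    rw [← map_add, ← map_add]

theorem box_mono {n m : ℕ} {U₀ : X₁.Opens} {a : Fin (n + 1) → ι} {b : Fin (m + 1) → κ} (h : W U a ≤ U₀)
    {V₀ : X₂.Opens} (h' : W V b ≤ V₀) :
    box U V p₁ p₂ (a, b) ≤ p₁ ⁻¹ᵁ U₀ ⊓ p₂ ⁻¹ᵁ V₀ :=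
  inf_le_inf (p₁.preimage_mono h) (p₂.preimage_mono h')

theorem theta₂_d_left (z : cxX f₁ U G 0 ⊗[A] cxX f₂ V F 0) (a : Fin 2 → ι) (b : Fin 1 → κ) :
    theta₂ sq G F U V 1 0 ((cxd f₁ U G 0).hom.rTensor (cxX f₂ V F 0) z) (a, b) =
      ∑ k : Fin 2, (-1 : ℤ) ^ (k : ℕ) • resA (p₁ ≫ f₁) (ext p₁ p₂ G F)
        (inf_le_inf_right _ (p₁.preimage_mono (leOfHom (Cech.proj (D := Opens X₁.carrier) U a k))))
        (theta₂ sq G F U V 0 0 z ((fun l => a (k.succAbove l)), b)) := by
  induction z using TensorProduct.induction_on with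
  | zero => simp only [map_zero, Pi.zero_apply, smul_zero, Finset.sum_const_zero]
  | tmul x y =>
    rw [LinearMap.rTensor_tmul, theta₂_tmul]
    show kappa sq G F _ _ ((cxd f₁ U G 0 x a) ⊗ₜ[A] y b) = _
    rw [BCCoh.cxd_apply, TensorProduct.sum_tmul, map_sum]
    refine Finset.sum_congr rfl fun k _ => ?_
    rw [← TensorProduct.smul_tmul' ((-1 : ℤ) ^ (k : ℕ)), map_zsmul, theta₂_tmul]
    refine congrArg ((-1 : ℤ) ^ (k : ℕ) • ·) ?_
    refine Eq.trans ?_ (kappa_res sq G F _ _ (leOfHom (Cech.proj (D := Opens X₁.carrier) U a k)) (le_refl (W V b))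
      inf_le_left inf_le_right _ (x (fun l => a (k.succAbove l)) ⊗ₜ[A] y b)).symm
    rw [TensorProduct.map_tmul]
    refine congrArg (fun t => kappa sq G F _ _ (_ ⊗ₜ[A] t)) ?_
    show y b = F.presheaf.map (homOfLE (le_refl (W V b))).op (y b)
    exact (Cohom.map_self_apply F _ _).symm
  | add x y hx hy => simp only [map_add, Pi.add_apply, hx, hy, smul_add, Finset.sum_add_distrib]

theorem theta₂_d_right (z : cxX f₁ U G 0 ⊗[A] cxX f₂ V F 0) (a : Fin 1 → ι) (b : Fin 2 → κ) :
    theta₂ sq G F U V 0 1 ((cxd f₂ V F 0).hom.lTensor (cxX f₁ U G 0) z) (a, b) =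
      ∑ k : Fin 2, (-1 : ℤ) ^ (k : ℕ) • resA (p₁ ≫ f₁) (ext p₁ p₂ G F)
        (inf_le_inf_left _ (p₂.preimage_mono (leOfHom (Cech.proj (D := Opens X₂.carrier) V b k))))
        (theta₂ sq G F U V 0 0 z (a, fun l => b (k.succAbove l))) := by
  induction z using TensorProduct.induction_on with
  | zero => simp only [map_zero, Pi.zero_apply, smul_zero, Finset.sum_const_zero]
  | tmul x y =>
    rw [LinearMap.lTensor_tmul, theta₂_tmul]
    show kappa sq G F _ _ (x a ⊗ₜ[A] (cxd f₂ V F 0 y b)) = _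
    rw [BCCoh.cxd_apply, TensorProduct.tmul_sum, map_sum]
    refine Finset.sum_congr rfl fun k _ => ?_
    rw [TensorProduct.tmul_smul, map_zsmul, theta₂_tmul]
    refine congrArg ((-1 : ℤ) ^ (k : ℕ) • ·) ?_
    refine Eq.trans ?_ (kappa_res sq G F _ _ (le_refl (W U a)) (leOfHom (Cech.proj (D := Opens X₂.carrier) V b k))
      inf_le_left inf_le_right _ (x a ⊗ₜ[A] y (fun l => b (k.succAbove l)))).symm
    rw [TensorProduct.map_tmul]
    refine congrArg (fun t => kappa sq G F _ _ (t ⊗ₜ[A] _)) ?_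
    show x a = G.presheaf.map (homOfLE (le_refl (W U a))).op (x a)
    exact (Cohom.map_self_apply G _ _).symm
  | add x y hx hy => simp only [map_add, Pi.add_apply, hx, hy, smul_add, Finset.sum_add_distrib]

variable [QuasiCompact f₁] [IsAffineHom (Limits.pullback.diagonal f₁)] [G.IsQuasicoherent] [F.IsQuasicoherent]
  (hU : iSup U = ⊤) (haU : ∀ (n : ℕ) (a : Fin (n + 1) → ι), IsAffineOpen (⨅ k, U (a k)))
  (hV : iSup V = ⊤) (haV : ∀ (n : ℕ) (a : Fin (n + 1) → κ), IsAffineOpen (⨅ k, V (a k)))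
  (hfl : AffFlat f₁ G) (hv : Cohom.VanishFrom (Coh.toAb G) ⊤ 1)

include sq hU hV in
theorem le_iSup_box : (⊤ : Z.Opens) ≤ ⨆ q : (Fin 1 → ι) × (Fin 1 → κ), box U V p₁ p₂ q := by
  intro z _
  obtain ⟨a, ha⟩ := Opens.mem_iSup.1 (BCAcyc22.le_iSup_W U hU (trivial : p₁ z ∈ (⊤ : X₁.Opens)))
  obtain ⟨b, hb⟩ := Opens.mem_iSup.1 (BCAcyc22.le_iSup_W V hV (trivial : p₂ z ∈ (⊤ : X₂.Opens)))
  exact Opens.mem_iSup.2 ⟨(a, b), ha, hb⟩

include hU haU hV haV hfl hv in
/-- **Global sections.** -/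
theorem bijective_kappa_top :
    Function.Bijective (kappa sq G F (W := ⊤) (U := ⊤) (V := ⊤) le_top le_top) := by
  haveI := flat_secTop f₁ U G hU haU hfl hv
  let H := ext p₁ p₂ G F
  have hB := bijective_theta₂ sq G F U V haU haV
  have hmap : ∀ z, TensorProduct.map (augA f₁ G U) (augA f₂ F V) z =
      (augA f₁ G U).rTensor _ ((augA f₂ F V).lTensor _ z) :=
    fun z => (LinearMap.congr_fun (LinearMap.rTensor_comp_lTensor _ _ _) z).symm
  have hN : Function.Injective ((augA f₂ F V).lTensor (secA f₁ G ⊤)) :=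
    Module.Flat.lTensor_preserves_injective_linearMap _ (BCAcyc22.injective_augA f₂ F V hV)
  refine ⟨(injective_iff_map_eq_zero _).2 fun z hz => ?_, fun s => ?_⟩
  · apply hN
    apply rTensor_augA_injective f₁ U G hU haU hfl hv
    rw [map_zero, map_zero, ← hmap]
    refine (hB 0 0).1 ((funext fun q => ?_).trans (map_zero _).symm)
    rw [theta₂_augA, hz, map_zero]
    rfl
  · obtain ⟨y, hy⟩ := (hB 0 0).2 fun q => resA (p₁ ≫ f₁) H le_top s
    have hy1 : (cxd f₁ U G 0).hom.rTensor (cxX f₂ V F 0) y = 0 := by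
      refine (hB 1 0).1 ((funext fun q => ?_).trans (map_zero _).symm)
      obtain ⟨a, b⟩ := q
      rw [theta₂_d_left, hy, Fin.sum_univ_two]
      simp only [Fin.val_zero, pow_zero, one_smul, Fin.val_one, pow_one, neg_smul]
      exact add_neg_eq_zero.2 ((BCAcyc22.res_res H le_top _ s).trans (BCAcyc22.res_res H le_top _ s).symm)
    have hy2 : (cxd f₂ V F 0).hom.lTensor (cxX f₁ U G 0) y = 0 := by
      refine (hB 0 1).1 ((funext fun q => ?_).trans (map_zero _).symm)
      obtain ⟨a, b⟩ := q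
      rw [theta₂_d_right, hy, Fin.sum_univ_two]
      simp only [Fin.val_zero, pow_zero, one_smul, Fin.val_one, pow_one, neg_smul]
      exact add_neg_eq_zero.2 ((BCAcyc22.res_res H le_top _ s).trans (BCAcyc22.res_res H le_top _ s).symm)
    obtain ⟨w, rfl⟩ := (exact_rTensor_augA f₁ U G hU haU hfl hv _ y).1 hy1
    have hw : (cxd f₂ V F 0).hom.lTensor (secA f₁ G ⊤) w = 0 := by
      apply rTensor_augA_injective f₁ U G hU haU hfl hv
      rw [map_zero, ← LinearMap.comp_apply, LinearMap.rTensor_comp_lTensor, ← LinearMap.lTensor_comp_rTensor,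
        LinearMap.comp_apply]
      exact hy2
    have hex : Function.Exact (augA f₂ F V) (cxd f₂ V F 0).hom := by
      have := BCAcyc22.exact_augA f₂ F V hV
      rwa [BCCoh.cx_d] at this
    obtain ⟨z, rfl⟩ := ((Module.Flat.lTensor_exact (secA f₁ G ⊤) hex) w).1 hw
    refine ⟨z, TopCat.Sheaf.eq_of_locally_eq' ⟨H.presheaf, H.isSheaf⟩
      (fun q : (Fin 1 → ι) × (Fin 1 → κ) => box U V p₁ p₂ q) ⊤ (fun _ => homOfLE le_top)
      (le_iSup_box sq U V hU hV) _ _ fun q => ?_⟩
    exact (theta₂_augA sq G F U V z q).symm.trans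
      ((congrArg (fun t => theta₂ sq G F U V 0 0 t q) (hmap z)).trans (congrFun hy q))

end GrothLib.KunExt22
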