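import Groth.Agent.Lib.KunExt22.Main
import Groth.Agent.Lib.Cohom.ModResolution
import Groth.Agent.Lib.BCCoh.CechA

/-! # Cohomology from a resolution by modules without higher cohomology, linearly over the base -/

set_option autoImplicit false
set_option linter.style.haveILetI false
set_option maxHeartbeats 1000000
set_option backward.isDefEq.respectTransparency false
universe u

open CategoryTheory CategoryTheory.Limits AlgebraicGeometry Opposite TopologicalSpace Abelian
open GrothLib.Cohom (AbSheaf freeFun sectionsEquiv sectionsAddEquiv sectionsEquiv_comp)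

noncomputable section

namespace GrothLib.KunExt22

variable {X : Scheme.{u}}

/-- A resolution by modules without higher cohomology. -/
structure AcRes (M : X.Modules) where
  /-- The complex. -/
  cocomplex : CochainComplex X.Modules ℕ
  /-- The module is the kernel of the first differential. -/
  z : M ≅ kernel (cocomplex.d 0 1)
  exact_succ : ∀ n, (ShortComplex.mk _ _ (cocomplex.d_comp_d n (n + 1) (n + 2))).Exact
  acyclic : ∀ n j, Subsingleton (Ext.{u} (freeFun.obj (⊤ : X.Opens)) (Coh.toAb (cocomplex.X n)) (j + 1))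

namespace AcRes

variable {M : X.Modules} (I : AcRes M)

/-- The underlying complex of abelian sheaves. -/
abbrev abCx : CochainComplex (AbSheaf X) ℕ :=
  ((QCoh.toAbFun X).mapHomologicalComplex _).obj I.cocomplex

theorem abCx_exact (n : ℕ) :
    (ShortComplex.mk _ _ ((abCx I).d_comp_d n (n + 1) (n + 2))).Exact :=
  (I.exact_succ n).map (QCoh.toAbFun X)

/-- `M` is the kernel of the first differential. -/
def z0 : Coh.toAb M ≅ ClassChain.Z (abCx I) 0 :=
  (QCoh.toAbFun X).mapIso I.z ≪≫ PreservesKernel.iso (QCoh.toAbFun X) _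

theorem z0_hom_ι : (z0 I).hom ≫ kernel.ι _ = (QCoh.toAbFun X).map (I.z.hom ≫ kernel.ι _) := by
  simp only [z0, Iso.trans_hom, Functor.mapIso_hom, Category.assoc, PreservesKernel.iso_hom, Functor.map_comp]
  exact congrArg (_ ≫ ·) (kernelComparison_comp_ι _ _)

/-- The cocycles. -/
def cocycles (p : ℕ) : AddSubgroup Γ(I.cocomplex.X p, ⊤) :=
  ((I.cocomplex.d p (p + 1)).app ⊤).hom.ker

/-- The map into the cycles classified by a cocycle. -/
def liftCoc (p : ℕ) : cocycles I p →+ (freeFun.obj (⊤ : X.Opens) ⟶ ClassChain.Z (abCx I) p) :=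
  AddMonoidHom.mk' (fun z ↦ kernel.lift _
    ((sectionsEquiv ⊤ (Coh.toAb (I.cocomplex.X p))).symm z.1) (by
      apply (sectionsEquiv ⊤ (Coh.toAb (I.cocomplex.X (p + 1)))).injective
      refine (sectionsEquiv_comp _ _).trans ?_
      erw [Equiv.apply_symm_apply]
      exact (z.2 : _ = (0 : Γ(I.cocomplex.X (p + 1), ⊤))).trans
        (map_zero (sectionsAddEquiv ⊤ (Coh.toAb (I.cocomplex.X (p + 1))))).symm)) fun a b ↦ by
    apply equalizer.hom_ext
    rw [kernel.lift_ι, Preadditive.add_comp, kernel.lift_ι, kernel.lift_ι]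
    exact map_add (sectionsAddEquiv ⊤ (Coh.toAb (I.cocomplex.X p))).symm a.1 b.1

theorem liftCoc_ι (p : ℕ) (z : cocycles I p) :
    liftCoc I p z ≫ kernel.ι _ = (sectionsEquiv ⊤ (Coh.toAb (I.cocomplex.X p))).symm z.1 :=
  kernel.lift_ι _ _ _

theorem liftCoc_bijective (p : ℕ) : Function.Bijective (liftCoc I p) := by
  refine ⟨fun a b h ↦ ?_, fun φ ↦ ?_⟩
  · apply Subtype.ext
    apply (sectionsEquiv ⊤ (Coh.toAb (I.cocomplex.X p))).symm.injective
    rw [← liftCoc_ι, ← liftCoc_ι, h]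
  · let z : Γ(I.cocomplex.X p, ⊤) :=
      sectionsEquiv ⊤ (Coh.toAb (I.cocomplex.X p)) (φ ≫ kernel.ι _)
    refine ⟨⟨z, ?_⟩, ?_⟩
    · have h : (φ ≫ kernel.ι ((abCx I).d p (p + 1))) ≫ (abCx I).d p (p + 1) = 0 := by
        rw [Category.assoc, kernel.condition, comp_zero]
      have h2 := congrArg (sectionsEquiv ⊤ (Coh.toAb (I.cocomplex.X (p + 1)))) h
      rw [sectionsEquiv_comp] at h2
      exact h2.trans (map_zero (sectionsAddEquiv ⊤ (Coh.toAb (I.cocomplex.X (p + 1)))))
    · apply equalizer.hom_ext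
      exact (liftCoc_ι I p _).trans (Equiv.symm_apply_apply _ _)

/-- The class of a cocycle. -/
def cocClass (p : ℕ) : cocycles I p →+ Ext.{u} (freeFun.obj (⊤ : X.Opens)) (Coh.toAb M) p :=
  ((Ext.mk₀ (z0 I).inv).postcomp (freeFun.obj (⊤ : X.Opens)) (add_zero p)).comp
    ((ClassChain.mapCls (abCx_exact I) (freeFun.obj (⊤ : X.Opens)) p).comp (liftCoc I p))

theorem cocClass_apply (p : ℕ) (z : cocycles I p) :
    cocClass I p z = (ClassChain.mapCls (abCx_exact I) (freeFun.obj (⊤ : X.Opens)) p (liftCoc I p z)).comp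
      (Ext.mk₀ (z0 I).inv) (add_zero p) := rfl

theorem comp_z0_inv_bijective (p : ℕ) :
    Function.Bijective fun x : Ext.{u} (freeFun.obj (⊤ : X.Opens)) (ClassChain.Z (abCx I) 0) p ↦
      x.comp (Ext.mk₀ (z0 I).inv) (add_zero p) := by
  refine Function.bijective_iff_has_inverse.2 ⟨fun x ↦ x.comp (Ext.mk₀ (z0 I).hom) (add_zero p),
    fun x ↦ ?_, fun x ↦ ?_⟩
  · simp
  · simp

theorem cocClass_surjective (p : ℕ) : Function.Surjective (cocClass I p) :=
  (comp_z0_inv_bijective I p).2.comp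
    ((ClassChain.mapCls_surjective (abCx_exact I) I.acyclic p).comp (liftCoc_bijective I p).2)

theorem cocClass_eq_zero_iff (p : ℕ) (z : cocycles I p) :
    cocClass I p z = 0 ↔ GrothLib.Cocyc.Bdy I.cocomplex p z.1 := by
  rw [cocClass_apply]
  refine ((comp_z0_inv_bijective I p).1.eq_iff' (Ext.zero_comp ..)).trans ?_
  obtain _ | q := p
  · rw [ClassChain.mapCls_zero, Ext.mk₀_eq_zero_iff, ← map_zero (liftCoc I 0),
      (liftCoc_bijective I 0).1.eq_iff, GrothLib.Cocyc.bdy_zero_iff]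
    exact Subtype.ext_iff
  rw [ClassChain.mapCls_eq_zero_iff (abCx_exact I) I.acyclic]
  constructor
  · rintro ⟨ψ, hψ⟩
    refine ⟨sectionsEquiv ⊤ (Coh.toAb (I.cocomplex.X q)) ψ, ?_⟩
    have h := congrArg (fun t ↦ sectionsEquiv ⊤ (Coh.toAb (I.cocomplex.X (q + 1))) (t ≫ kernel.ι _)) hψ
    simp only [Category.assoc, kernel.lift_ι, liftCoc_ι, Equiv.apply_symm_apply] at h
    rw [sectionsEquiv_comp] at h
    exact h
  · rintro ⟨(w : Γ(I.cocomplex.X q, ⊤)), hw⟩
    refine ⟨(sectionsEquiv ⊤ (Coh.toAb (I.cocomplex.X q))).symm w, ?_⟩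
    apply equalizer.hom_ext
    rw [Category.assoc, kernel.lift_ι, liftCoc_ι]
    apply (sectionsEquiv ⊤ (Coh.toAb (I.cocomplex.X (q + 1)))).injective
    rw [sectionsEquiv_comp]
    erw [Equiv.apply_symm_apply, Equiv.apply_symm_apply]
    exact hw

/-- A global function as an endomorphism of the complex. -/
def smulCx (r : Coh.Γtop X) : abCx I ⟶ abCx I where
  f n := Coh.smulAb (I.cocomplex.X n) r
  comm' i j _ := Cohom.smulAb_naturality (I.cocomplex.d i j) r

theorem cocClass_smul (p : ℕ) (r : Γ(X, ⊤)) (z : cocycles I p)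
    (h : X.presheaf.map (homOfLE (le_top : (⊤ : X.Opens) ≤ ⊤)).op r • z.1 ∈ cocycles I p) :
    cocClass I p ⟨X.presheaf.map (homOfLE (le_top : (⊤ : X.Opens) ≤ ⊤)).op r • z.1, h⟩ =
      (cocClass I p z).comp (Ext.mk₀ (Coh.smulAb M r)) (add_zero p) := by
  have e : liftCoc I p ⟨X.presheaf.map (homOfLE (le_top : (⊤ : X.Opens) ≤ ⊤)).op r • z.1, h⟩ =
      liftCoc I p z ≫ ClassChain.zMap (smulCx I r) p := by
    apply equalizer.hom_ext
    rw [liftCoc_ι, Category.assoc, kernel.lift_ι, ← Category.assoc, liftCoc_ι]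
    apply (sectionsEquiv ⊤ (Coh.toAb (I.cocomplex.X p))).injective
    rw [sectionsEquiv_comp, Equiv.apply_symm_apply]
    erw [Equiv.apply_symm_apply]
    rfl
  have e0 : ClassChain.zMap (smulCx I r) 0 ≫ (z0 I).inv = (z0 I).inv ≫ Coh.smulAb M r := by
    rw [Iso.comp_inv_eq, Category.assoc, Iso.eq_inv_comp]
    apply equalizer.hom_ext
    rw [Category.assoc, Category.assoc, kernel.lift_ι, ← Category.assoc, z0_hom_ι]
    exact (Cohom.smulAb_naturality (I.z.hom ≫ kernel.ι (I.cocomplex.d 0 1)) r).symm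
  rw [cocClass_apply, e, ClassChain.mapCls_zMap, cocClass_apply,
    Ext.comp_assoc_of_third_deg_zero, Ext.mk₀_comp_mk₀, e0, ← Ext.mk₀_comp_mk₀,
    Ext.comp_assoc_of_third_deg_zero]

end AcRes

theorem HEquivTop_map {F G : AbSheaf X} (g : F ⟶ G) (n : ℕ) (x : Sheaf.H F n) :
    Cohom.HEquivTop G n (Sheaf.H.map g n x) = (Cohom.HEquivTop F n x).comp (Ext.mk₀ g) (add_zero n) :=
  (Ext.comp_assoc_of_third_deg_zero (Ext.mk₀ (Cohom.freeTopIso (T := X)).hom)
    (show Ext.{u} _ F n from x) (Ext.mk₀ g) (zero_add n)).symm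

variable {A : Type u} [CommRing A] (f : X ⟶ Spec (CommRingCat.of A))

/-- The complex of integer degrees read in natural ones. -/
def natPart {C : Type*} [Category C] [Preadditive C] (T : CochainComplex C ℤ) : CochainComplex C ℕ where
  X n := T.X n
  d i j := T.d i j
  shape i j h := T.shape _ _ fun hh => h (by
    simp only [ComplexShape.up_Rel] at hh ⊢
    omega)
  d_comp_d' i j k _ _ := T.d_comp_d _ _ _

/-- **A resolution by modules without higher cohomology computes cohomology.** -/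
theorem nonempty_homology_equiv_HH (M : X.Modules) (T : CochainComplex X.Modules ℤ)
    (hneg : ∀ i : ℤ, i < 0 → IsZero (T.X i)) (z : M ≅ kernel (T.d 0 1)) (hex : ∀ n : ℕ, T.ExactAt (n + 1))
    (hv : ∀ n, Cohom.VanishFrom (Coh.toAb (T.X n)) ⊤ 1) (p : ℕ) :
    letI := BCCoh.modHH f M p
    Nonempty ((((secFun f ⊤).mapHomologicalComplex (ComplexShape.up ℤ)).obj T).homology (p : ℤ) ≃ₗ[A]
      Coh.HH X M p) := by
  letI := BCCoh.modHH f M p
  let I : AcRes M :=
    { cocomplex := natPart T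
      z := z
      exact_succ := fun n => by
        have h := hex n
        rw [HomologicalComplex.exactAt_iff' _ (n : ℤ) (n + 1) (n + 2)
          (CochainComplex.prev ℤ _ |>.trans (by omega)) (CochainComplex.next ℤ _ |>.trans (by omega))] at h
        exact h
      acyclic := fun n j => hv _ (j + 1) (by omega) }
  let K := ((secFun f ⊤).mapHomologicalComplex (ComplexShape.up ℤ)).obj T
  let S := K.sc' ((p : ℤ) - 1) p (p + 1)
  let Φ : LinearMap.ker S.g.hom →ₗ[A] Coh.HH X M p :=
    { toFun := fun z => (Cohom.HEquivTop (Coh.toAb M) p).symm (I.cocClass p ⟨z.1, z.2⟩)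
      map_add' := fun a b => by
        rw [← map_add, ← map_add]
        rfl
      map_smul' := fun a z => by
        apply (Cohom.HEquivTop (Coh.toAb M) p).injective
        rw [AddEquiv.apply_symm_apply]
        refine (I.cocClass_smul p (Coh.toGlobal f a) ⟨z.1, z.2⟩ (a • z).2).trans ?_
        refine Eq.trans ?_ (HEquivTop_map (Coh.smulAb M (Coh.toGlobal f a)) p
          ((Cohom.HEquivTop (Coh.toAb M) p).symm (I.cocClass p ⟨z.1, z.2⟩))).symm
        rw [AddEquiv.apply_symm_apply] }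
  have hsurj : Function.Surjective Φ := fun y => by
    obtain ⟨c, hc⟩ := I.cocClass_surjective p (Cohom.HEquivTop (Coh.toAb M) p y)
    exact ⟨⟨c.1, c.2⟩, (congrArg (Cohom.HEquivTop (Coh.toAb M) p).symm hc).trans (AddEquiv.symm_apply_apply _ y)⟩
  have hker : LinearMap.range S.moduleCatToCycles = LinearMap.ker Φ := by
    ext z
    rw [LinearMap.mem_ker]
    refine Iff.trans ?_ ((AddEquiv.map_eq_zero_iff (Cohom.HEquivTop (Coh.toAb M) p).symm).trans
      (I.cocClass_eq_zero_iff p ⟨z.1, z.2⟩)).symm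
    rw [LinearMap.mem_range]
    obtain _ | q := p
    · rw [GrothLib.Cocyc.bdy_zero_iff]
      refine ⟨?_, fun h => ⟨0, (map_zero _).trans (Subtype.ext h.symm)⟩⟩
      rintro ⟨w, rfl⟩
      haveI : Subsingleton S.X₁ := ModuleCat.subsingleton_of_isZero ((secFun f ⊤).map_isZero (hneg _ (by omega)))
      exact congrArg Subtype.val ((congrArg S.moduleCatToCycles (Subsingleton.elim w 0)).trans (map_zero _))
    · have hd : ∀ (i : ℤ) (_ : i = q), (∃ w : Γ(T.X i, ⊤), (T.d i ((q + 1 : ℕ) : ℤ)).app ⊤ w = z.1) ↔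
          GrothLib.Cocyc.Bdy I.cocomplex (q + 1) z.1 := by
        rintro i rfl
        rfl
      refine Iff.trans ?_ (hd (((q + 1 : ℕ) : ℤ) - 1) (by push_cast; ring))
      constructor
      · rintro ⟨w, hw⟩
        exact ⟨w, congrArg Subtype.val hw⟩
      · rintro ⟨w, hw⟩
        refine ⟨w, Subtype.ext ?_⟩
        exact hw
  exact ⟨(K.homologyIsoSc' ((p : ℤ) - 1) p (p + 1) (CochainComplex.prev ℤ _) (CochainComplex.next ℤ _) ≪≫
    S.moduleCatHomologyIso).toLinearEquiv ≪≫ₗ
    ((Submodule.quotEquivOfEq _ _ hker).trans (Φ.quotKerEquivOfSurjective hsurj))⟩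

/-- The kernel and exactness data of a quasi-isomorphism from a single module. -/
theorem resolution_of_quasiIso (M : X.Modules) (P T : CochainComplex X.Modules ℤ) (e : P.X 0 ≅ M)
    (hP : ∀ i : ℤ, i ≠ 0 → IsZero (P.X i)) (v : P ⟶ T) [QuasiIso v] (hneg : ∀ i : ℤ, i < 0 → IsZero (T.X i)) :
    Nonempty (M ≅ kernel (T.d 0 1)) ∧ ∀ n : ℕ, T.ExactAt (n + 1) := by
  refine ⟨?_, fun n => ?_⟩
  · haveI := (quasiIsoAt_iff_isIso_homologyMap v 0).1 inferInstance
    haveI : IsIso (P.homologyπ 0) :=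
      P.isIso_homologyπ (-1) 0 (by simp) ((hP (-1) (by omega)).eq_of_src _ _)
    haveI : IsIso (P.iCycles 0) :=
      P.isIso_iCycles 0 1 (by simp) ((hP 1 (by omega)).eq_of_tgt _ _)
    haveI : IsIso (T.homologyπ 0) :=
      T.isIso_homologyπ (-1) 0 (by simp) ((hneg (-1) (by omega)).eq_of_src _ _)
    exact ⟨e.symm ≪≫ (asIso (P.iCycles 0)).symm ≪≫ asIso (P.homologyπ 0) ≪≫
      asIso (HomologicalComplex.homologyMap v 0) ≪≫ (asIso (T.homologyπ 0)).symm ≪≫
      (T.cyclesIsKernel 0 1 (by simp)).conePointUniqueUpToIso (limit.isLimit _)⟩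
  · rw [← exactAt_iff_of_quasiIsoAt v]
    exact HomologicalComplex.ExactAt.of_isZero (hP _ (by omega))

end GrothLib.KunExt22
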