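import Groth.Agent.Lib.KunExt22.Sections
import Groth.Agent.Lib.BCAcyc22.PullCompute
import Groth.Agent.Lib.GenFlatBC9.TensorSec

/-! # Sections of external tensor products -/

set_option autoImplicit false
set_option linter.style.haveILetI false
set_option maxHeartbeats 1000000
set_option backward.isDefEq.respectTransparency false
universe u

open CategoryTheory AlgebraicGeometry Opposite TopologicalSpace TensorProduct
open GrothLib.OX (tmulSec)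
open GrothLib.BCCoh (secA resA appA psiR pullRes)

noncomputable section

namespace GrothLib.KunExt22

variable {A : Type u} [CommRing A] {X₁ X₂ Z : Scheme.{u}}
  {f₁ : X₁ ⟶ Spec (CommRingCat.of A)} {f₂ : X₂ ⟶ Spec (CommRingCat.of A)} {p₁ : Z ⟶ X₁} {p₂ : Z ⟶ X₂}
  (sq : IsPullback p₂ p₁ f₂ f₁)

/-- `p₁^* G ⊗ p₂^* F`. -/
abbrev ext (p₁ : Z ⟶ X₁) (p₂ : Z ⟶ X₂) (G : X₁.Modules) (F : X₂.Modules) : Z.Modules :=
  GenFlatBC9.tgtMod G F p₁ p₂

/-- The external tensor product as a bifunctor. -/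
abbrev extBi (p₁ : Z ⟶ X₁) (p₂ : Z ⟶ X₂) : X₁.Modules ⥤ X₂.Modules ⥤ Z.Modules :=
  Scheme.Modules.pullback p₁ ⋙ DCoh.tensorBi (X := Z) ⋙
    (Functor.whiskeringLeft _ _ _).obj (Scheme.Modules.pullback p₂)

include sq in
theorem psiR_pull {U : X₁.Opens} {W : Z.Opens} (h : W ≤ p₁ ⁻¹ᵁ U) (a : A) :
    p₁.appLE U W h (psiR f₁ U a) = psiR (p₁ ≫ f₁) W a := by
  rw [BCCoh.psiR_eq, BCCoh.psiR_eq]
  show ((f₁.appLE ⊤ U le_top) ≫ p₁.appLE U W h) _ = _
  rw [Scheme.Hom.appLE_comp_appLE]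
  rfl

include sq in
theorem psiR_pull₂ {V : X₂.Opens} {W : Z.Opens} (h : W ≤ p₂ ⁻¹ᵁ V) (a : A) :
    p₂.appLE V W h (psiR f₂ V a) = psiR (p₁ ≫ f₁) W a := by
  rw [BCCoh.psiR_eq, BCCoh.psiR_eq]
  show ((f₂.appLE ⊤ V le_top) ≫ p₂.appLE V W h) _ = _
  simp only [Scheme.Hom.appLE_comp_appLE, sq.w]
  rfl

variable (G : X₁.Modules) (F : X₂.Modules)

include sq in
/-- `s ⊗ t ↦ p₁^* s ⊗ p₂^* t` on sections. -/
def kappa {U : X₁.Opens} {V : X₂.Opens} {W : Z.Opens} (h₁ : W ≤ p₁ ⁻¹ᵁ U) (h₂ : W ≤ p₂ ⁻¹ᵁ V) :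
    secA f₁ G U ⊗[A] secA f₂ F V →ₗ[A] secA (p₁ ≫ f₁) (ext p₁ p₂ G F) W :=
  TensorProduct.lift (LinearMap.mk₂ A
    (fun (s : secA f₁ G U) (t : secA f₂ F V) =>
      (show secA (p₁ ≫ f₁) (ext p₁ p₂ G F) W from
        tmulSec _ _ W (pullRes p₁ G U W h₁ s) (pullRes p₂ F V W h₂ t)))
    (fun s s' t => (congrArg (fun c => tmulSec _ _ W c (pullRes p₂ F V W h₂ t))
      (BCCoh.pullRes_add p₁ G U W h₁ s s')).trans (OX.tmulSec_add_left _ _ W _ _ _))
    (fun a s t => (congrArg (fun c => tmulSec _ _ W c (pullRes p₂ F V W h₂ t))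
      ((BCCoh.pullRes_smul p₁ G U W h₁ (psiR f₁ U a) s).trans (congrArg (fun r : Γ(Z, W) => r • pullRes p₁ G U W h₁ s) (psiR_pull sq h₁ a)))).trans
      (OX.tmulSec_smul_left _ _ W _ _ _))
    (fun s t t' => (congrArg (tmulSec _ _ W _) (BCCoh.pullRes_add p₂ F V W h₂ t t')).trans
      (OX.tmulSec_add_right _ _ W _ _ _))
    (fun a s t => (congrArg (tmulSec _ _ W _)
      ((BCCoh.pullRes_smul p₂ F V W h₂ (psiR f₂ V a) t).trans (congrArg (fun r : Γ(Z, W) => r • pullRes p₂ F V W h₂ t) (psiR_pull₂ sq h₂ a)))).trans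
      (OX.tmulSec_smul_right _ _ W _ _ _)))

theorem kappa_tmul {U : X₁.Opens} {V : X₂.Opens} {W : Z.Opens} (h₁ : W ≤ p₁ ⁻¹ᵁ U) (h₂ : W ≤ p₂ ⁻¹ᵁ V)
    (s : secA f₁ G U) (t : secA f₂ F V) :
    kappa sq G F h₁ h₂ (s ⊗ₜ t) = tmulSec _ _ W (pullRes p₁ G U W h₁ s) (pullRes p₂ F V W h₂ t) := rfl

theorem kappa_res {U U' : X₁.Opens} {V V' : X₂.Opens} {W W' : Z.Opens} (h₁ : W ≤ p₁ ⁻¹ᵁ U) (h₂ : W ≤ p₂ ⁻¹ᵁ V)
    (hU : U' ≤ U) (hV : V' ≤ V) (k₁ : W' ≤ p₁ ⁻¹ᵁ U') (k₂ : W' ≤ p₂ ⁻¹ᵁ V') (hW : W' ≤ W)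
    (z : secA f₁ G U ⊗[A] secA f₂ F V) :
    resA (p₁ ≫ f₁) (ext p₁ p₂ G F) hW (kappa sq G F h₁ h₂ z) =
      kappa sq G F k₁ k₂ (TensorProduct.map (resA f₁ G hU) (resA f₂ F hV) z) := by
  induction z using TensorProduct.induction_on with
  | zero => simp only [map_zero]
  | add a b ha hb => simp only [map_add, ha, hb]
  | tmul s t =>
    rw [TensorProduct.map_tmul, kappa_tmul, kappa_tmul]
    exact (GenFlatBC9.res_tmulSec _ _ hW _ _).trans (congrArg₂ (tmulSec _ _ W')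
      (BCCoh.pullRes_res p₁ G hU h₁ k₁ hW s) (BCCoh.pullRes_res p₂ F hV h₂ k₂ hW t))

theorem kappa_natural_left {G' : X₁.Modules} (a : G ⟶ G') {U : X₁.Opens} {V : X₂.Opens} {W : Z.Opens}
    (h₁ : W ≤ p₁ ⁻¹ᵁ U) (h₂ : W ≤ p₂ ⁻¹ᵁ V) (z : secA f₁ G U ⊗[A] secA f₂ F V) :
    kappa sq G' F h₁ h₂ ((appA f₁ a U).rTensor (secA f₂ F V) z) =
      appA (p₁ ≫ f₁) (((extBi p₁ p₂).map a).app F) W (kappa sq G F h₁ h₂ z) := by
  induction z using TensorProduct.induction_on with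
  | zero => simp only [map_zero]
  | add x y hx hy => simp only [map_add, hx, hy]
  | tmul s t =>
    rw [LinearMap.rTensor_tmul, kappa_tmul, kappa_tmul]
    refine Eq.trans ?_ (ProjFormula.map_left_tmulSec ((Scheme.Modules.pullback p₁).map a) _ W _ _).symm
    exact congrArg (fun c => tmulSec _ _ W c (pullRes p₂ F V W h₂ t))
      (BCAcyc22.pullRes_natural p₁ a h₁ s).symm

theorem kappa_natural_right {F' : X₂.Modules} (b : F ⟶ F') {U : X₁.Opens} {V : X₂.Opens} {W : Z.Opens}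
    (h₁ : W ≤ p₁ ⁻¹ᵁ U) (h₂ : W ≤ p₂ ⁻¹ᵁ V) (z : secA f₁ G U ⊗[A] secA f₂ F V) :
    kappa sq G F' h₁ h₂ ((appA f₂ b V).lTensor (secA f₁ G U) z) =
      appA (p₁ ≫ f₁) (((extBi p₁ p₂).obj G).map b) W (kappa sq G F h₁ h₂ z) := by
  induction z using TensorProduct.induction_on with
  | zero => simp only [map_zero]
  | add x y hx hy => simp only [map_add, hx, hy]
  | tmul s t =>
    rw [LinearMap.lTensor_tmul, kappa_tmul, kappa_tmul]
    refine Eq.trans ?_ (ProjFormula.map_right_tmulSec _ ((Scheme.Modules.pullback p₂).map b) W _ _).symm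
    exact congrArg (tmulSec _ _ W _) (BCAcyc22.pullRes_natural p₂ b h₂ t).symm

/-- Balancing over a ring receiving `A` surjectively gives a surjection back. -/
theorem exists_surjective_lift {R S : Type u} [CommRing R] [CommRing S] (φ : R →+* S) (hφ : Function.Surjective φ)
    (M N : Type u) [AddCommGroup M] [AddCommGroup N] [Module R M] [Module R N] [Module S M] [Module S N]
    (hM : ∀ (r : R) (m : M), φ r • m = r • m) (hN : ∀ (r : R) (n : N), φ r • n = r • n) :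
    ∃ e : M ⊗[S] N →+ M ⊗[R] N, Function.Surjective e ∧ ∀ m n, e (m ⊗ₜ n) = m ⊗ₜ n := by
  let b : M →+ N →+ M ⊗[R] N :=
    AddMonoidHom.mk' (fun m => AddMonoidHom.mk' (fun n => m ⊗ₜ n) fun n n' => tmul_add m n n')
      fun m m' => AddMonoidHom.ext fun n => add_tmul m m' n
  refine ⟨TensorProduct.liftAddHom b fun s m n => ?_, fun z => ?_, fun _ _ => rfl⟩
  · obtain ⟨r, rfl⟩ := hφ s
    show (φ r • m) ⊗ₜ[R] n = m ⊗ₜ[R] (φ r • n)
    rw [hM, hN, smul_tmul]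
  · induction z using TensorProduct.induction_on with
    | zero => exact ⟨0, map_zero _⟩
    | tmul m n => exact ⟨m ⊗ₜ n, rfl⟩
    | add x y hx hy =>
      obtain ⟨a, rfl⟩ := hx
      obtain ⟨b', rfl⟩ := hy
      exact ⟨a + b', map_add _ _ _⟩

include sq in
/-- **Sections over a product of affine opens.** -/
theorem bijective_kappa [G.IsQuasicoherent] [F.IsQuasicoherent] {U : X₁.Opens} (hU : IsAffineOpen U)
    {V : X₂.Opens} (hV : IsAffineOpen V) {W : Z.Opens} (hW : W = p₁ ⁻¹ᵁ U ⊓ p₂ ⁻¹ᵁ V) :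
    Function.Bijective (kappa sq G F (hW.le.trans inf_le_left : W ≤ p₁ ⁻¹ᵁ U)
      (hW.le.trans inf_le_right : W ≤ p₂ ⁻¹ᵁ V)) := by
  obtain rfl : W = FlatBC.upU p₂ p₁ U V := hW.trans (inf_comm _ _)
  let T : (Spec (CommRingCat.of A)).Opens := ⊤
  have eU : U ≤ f₁ ⁻¹ᵁ T := le_top
  have eV : V ≤ f₂ ⁻¹ᵁ T := le_top
  letI := GenFlatBC9.modOver f₁ G eU
  letI := GenFlatBC9.modOver f₂ F eV
  letI : Module Γ(Spec (CommRingCat.of A), T) (secA f₁ G U) := GenFlatBC9.modOver f₁ G eU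
  letI : Module Γ(Spec (CommRingCat.of A), T) (secA f₂ F V) := GenFlatBC9.modOver f₂ F eV
  obtain ⟨e, he, hez⟩ := exists_surjective_lift (R := A) (S := Γ(Spec (CommRingCat.of A), T))
    (Scheme.ΓSpecIso (CommRingCat.of A)).inv.hom (ConcreteCategory.bijective_of_isIso _).2
    (secA f₁ G U) (secA f₂ F V)
    (fun r m => by
      show f₁.appLE T U eU ((Scheme.ΓSpecIso (CommRingCat.of A)).inv r) • (show Γ(G, U) from m) =
        (show Γ(X₁, U) from psiR f₁ U r) • (show Γ(G, U) from m)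
      rw [BCCoh.psiR_eq]; rfl)
    (fun r n => by
      show f₂.appLE T V eV ((Scheme.ΓSpecIso (CommRingCat.of A)).inv r) • (show Γ(F, V) from n) =
        (show Γ(X₂, V) from psiR f₂ V r) • (show Γ(F, V) from n)
      rw [BCCoh.psiR_eq]; rfl)
  have hb := GenFlatBC9.bijective_secCmp G F sq (isAffineOpen_top _) hU hV eV eU
  have hcomp : ∀ z, kappa sq G F _ _ (e z) = GenFlatBC9.secCmp G F sq.w eV eU
      (inf_le_left : FlatBC.upU p₂ p₁ U V ≤ p₂ ⁻¹ᵁ V) inf_le_right z := fun z => by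
    induction z using TensorProduct.induction_on with
    | zero => simp only [map_zero]
    | add x y hx hy => simp only [map_add, hx, hy]
    | tmul m n => rw [hez]; rfl
  refine ⟨(injective_iff_map_eq_zero _).2 fun z hz => ?_, fun y => ?_⟩
  · obtain ⟨w, rfl⟩ := he z
    rw [hb.1 (((hcomp w).symm.trans hz).trans (map_zero _).symm), map_zero]
  · obtain ⟨w, rfl⟩ := hb.2 y
    exact ⟨e w, hcomp w⟩

include sq in
/-- A product of affine opens is affine. -/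
theorem isAffineOpen_prod {U : X₁.Opens} (hU : IsAffineOpen U) {V : X₂.Opens} (hV : IsAffineOpen V) :
    IsAffineOpen (p₁ ⁻¹ᵁ U ⊓ p₂ ⁻¹ᵁ V) := by
  have h := FlatLimit.isAffineOpen_square (V₀ := (⊤ : (Spec (CommRingCat.of A)).Opens)) (Vi := U) (U₀ := V) sq
    le_top le_top (isAffineOpen_top _) hU hV
  rwa [show p₁ ⁻¹ᵁ U ⊓ p₂ ⁻¹ᵁ V = FlatBC.upU p₂ p₁ U V from inf_comm _ _]

end GrothLib.KunExt22
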