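import Groth.Agent.Lib.KunExt22.Vanish
import Groth.Agent.Lib.KunExt22.Decomp
import Mathlib.Algebra.Homology.DerivedCategory.KProjective

/-! # The hypercohomology of external tensor products -/

set_option autoImplicit false
set_option linter.style.haveILetI false
set_option maxHeartbeats 2000000
set_option backward.isDefEq.respectTransparency false
universe u

open CategoryTheory CategoryTheory.Limits AlgebraicGeometry Opposite TopologicalSpace TensorProduct MonoidalCategory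
open GrothLib.BCCoh (secA resA appA)
open GrothLib.BCAcyc22 (AffFlat)

attribute [local instance] HasDerivedCategory.standard

noncomputable section

namespace GrothLib.KunExt22

section Sections

variable {A : Type u} [CommRing A] {X : Scheme.{u}} (f : X ⟶ Spec (CommRingCat.of A))

theorem exact_map_secFun {S : ShortComplex X.Modules} (hS : S.Exact) (h₁ : Coh.IsQCoh S.X₁) (h₂ : Coh.IsQCoh S.X₂)
    (h₃ : Coh.IsQCoh S.X₃) {U : X.Opens} (hU : IsAffineOpen U) : (S.map (secFun f U)).Exact := by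
  haveI : S.X₁.IsQuasicoherent := h₁
  haveI : S.X₂.IsQuasicoherent := h₂
  haveI : S.X₃.IsQuasicoherent := h₃
  refine (ShortComplex.moduleCat_exact_iff _).2 fun b hb => ?_
  let L := ShortComplex.mk (kernel.ι S.g) _ (cokernel.condition (kernel.ι S.g))
  have hL : L.ShortExact :=
    { exact := ShortComplex.exact_of_g_is_cokernel _ (cokernelIsCokernel _)
      mono_f := inferInstanceAs (Mono (kernel.ι S.g))
      epi_g := inferInstanceAs (Epi (cokernel.π _)) }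
  let c : S.X₁ ⟶ kernel S.g := kernel.lift S.g S.f S.zero
  haveI : Epi c := (S.exact_iff_epi_kernel_lift).1 hS
  let T := ShortComplex.mk (kernel.ι c) c (kernel.condition c)
  have hT : T.ShortExact :=
    { exact := ShortComplex.exact_of_f_is_kernel _ (kernelIsKernel _)
      mono_f := inferInstanceAs (Mono (kernel.ι c))
      epi_g := inferInstanceAs (Epi c) }
  haveI : (kernel S.g).IsQuasicoherent := QCoh.isQuasicoherent_kernel S.g
  haveI : T.X₁.IsQuasicoherent := QCoh.isQuasicoherent_kernel c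
  obtain ⟨k, hk⟩ : ∃ k, (kernel.ι S.g).app U k = b := by
    haveI : IsAffine (U : Scheme.{u}) := hU
    let K := ShortComplex.mk (kernel.ι S.g) (cokernel.π (kernel.ι S.g)) (cokernel.condition _)
    have hz : (cokernel.π (kernel.ι S.g)).app U b = 0 := by
      have hfac : cokernel.π (kernel.ι S.g) ≫ (cokernel.desc (kernel.ι S.g) S.g (kernel.condition _)) = S.g :=
        cokernel.π_desc _ _ _
      haveI : Mono (cokernel.desc (kernel.ι S.g) S.g (kernel.condition _)) :=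
        inferInstanceAs (Mono (Abelian.factorThruCoimage S.g))
      let M := ShortComplex.mk (cokernel.desc (kernel.ι S.g) S.g (kernel.condition _)) _ (cokernel.condition _)
      have hM : M.ShortExact :=
        { exact := ShortComplex.exact_of_g_is_cokernel _ (cokernelIsCokernel _)
          mono_f := ‹Mono _›
          epi_g := inferInstanceAs (Epi (cokernel.π _)) }
      refine QCoh.app_injective hM U ?_
      refine Eq.trans ?_ (map_zero _).symm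
      exact (congrArg (fun t : S.X₂ ⟶ S.X₃ => t.app U b) hfac).trans hb
    exact QCoh.app_exact (S := K) hL U b hz
  obtain ⟨a, ha⟩ := QCoh.app_surjective_of_isAffineOpen hT hU k
  exact ⟨a, ((congrArg (fun t : S.X₁ ⟶ S.X₂ => t.app U a) (kernel.lift_ι S.g S.f S.zero)).symm.trans
    (congrArg ((kernel.ι S.g).app U) ha)).trans hk⟩

theorem quasiIso_secFun_map {K L : CochainComplex X.Modules ℤ} (g : K ⟶ L) [QuasiIso g]
    (hK : ∀ n, Coh.IsQCoh (K.X n)) (hL : ∀ n, Coh.IsQCoh (L.X n)) {U : X.Opens} (hU : IsAffineOpen U) :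
    QuasiIso (((secFun f U).mapHomologicalComplex (ComplexShape.up ℤ)).map g) := by
  rw [DerCat.quasiIso_iff_acyclic_mappingCone]
  intro n
  refine HomologicalComplex.ExactAt.of_iso ?_ (CochainComplex.mappingCone.mapHomologicalComplexIso g (secFun f U))
  exact exact_map_secFun f ((DerCat.quasiIso_iff_acyclic_mappingCone g).1 inferInstance n)
    (isQCoh_mappingCone_X g hK hL _) (isQCoh_mappingCone_X g hK hL _) (isQCoh_mappingCone_X g hK hL _) hU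

/-- Global sections as sections on `⊤`. -/
def secTopIso : HTor.globalSectionsA f ≅ secFun f ⊤ :=
  NatIso.ofComponents (fun F => (BCAcyc22.secEquiv f F).toModuleIso) fun _ => rfl

end Sections

variable {A : Type u} [CommRing A] {X₁ X₂ Z : Scheme.{u}}
  {f₁ : X₁ ⟶ Spec (CommRingCat.of A)} {f₂ : X₂ ⟶ Spec (CommRingCat.of A)} {p₁ : Z ⟶ X₁} {p₂ : Z ⟶ X₂}
  (sq : IsPullback p₂ p₁ f₂ f₁)

/-- The pairing on sections as a morphism. -/
def kap {U : X₁.Opens} {V : X₂.Opens} {W : Z.Opens} (h₁ : W ≤ p₁ ⁻¹ᵁ U) (h₂ : W ≤ p₂ ⁻¹ᵁ V)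
    (M : X₁.Modules) (N : X₂.Modules) :
    (secFun f₁ U).obj M ⊗ (secFun f₂ V).obj N ⟶ (secFun (p₁ ≫ f₁) W).obj (((extBi p₁ p₂).obj M).obj N) :=
  show secA f₁ M U ⊗ secA f₂ N V ⟶ secA (p₁ ≫ f₁) (ext p₁ p₂ M N) W from ConcreteCategory.ofHom (kappa sq M N h₁ h₂)

theorem kap_left {U : X₁.Opens} {V : X₂.Opens} {W : Z.Opens} (h₁ : W ≤ p₁ ⁻¹ᵁ U) (h₂ : W ≤ p₂ ⁻¹ᵁ V)
    {M M' : X₁.Modules} (a : M ⟶ M') (N : X₂.Modules) :
    ((secFun f₁ U).map a ▷ (secFun f₂ V).obj N) ≫ kap sq h₁ h₂ M' N =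
      kap sq h₁ h₂ M N ≫ (secFun (p₁ ≫ f₁) W).map (((extBi p₁ p₂).map a).app N) :=
  ConcreteCategory.hom_ext _ _ fun z => kappa_natural_left sq M N a h₁ h₂ z

theorem kap_right {U : X₁.Opens} {V : X₂.Opens} {W : Z.Opens} (h₁ : W ≤ p₁ ⁻¹ᵁ U) (h₂ : W ≤ p₂ ⁻¹ᵁ V)
    (M : X₁.Modules) {N N' : X₂.Modules} (b : N ⟶ N') :
    ((secFun f₁ U).obj M ◁ (secFun f₂ V).map b) ≫ kap sq h₁ h₂ M N' =
      kap sq h₁ h₂ M N ≫ (secFun (p₁ ≫ f₁) W).map (((extBi p₁ p₂).obj M).map b) :=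
  ConcreteCategory.hom_ext _ _ fun z => kappa_natural_right sq M N b h₁ h₂ z

/-- The map of external tensor product complexes. -/
abbrev extMap {P P' : CochainComplex X₁.Modules ℤ} (v : P ⟶ P') {Q Q' : CochainComplex X₂.Modules ℤ} (w : Q ⟶ Q') :
    (bicx (extBi p₁ p₂) P Q).total (ComplexShape.up ℤ) ⟶ (bicx (extBi p₁ p₂) P' Q').total (ComplexShape.up ℤ) :=
  HomologicalComplex₂.total.map
    ((((extBi p₁ p₂).mapBifunctorHomologicalComplex _ _).map v).app Q ≫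
      (((extBi p₁ p₂).mapBifunctorHomologicalComplex _ _).obj P').map w) (ComplexShape.up ℤ)

theorem exists_finite_cover {X : Scheme.{u}} (f : X ⟶ Spec (CommRingCat.of A)) [QuasiCompact f] :
    ∃ (m : ℕ) (U : Fin (m + 1) → X.Opens), (∀ i, IsAffineOpen (U i)) ∧ ⨆ i, U i = ⊤ := by
  haveI : CompactSpace X := QuasiCompact.compactSpace_of_compactSpace f
  obtain ⟨κ, _, V, hV, -, hcov⟩ := QCoh.exists_finite_affine_cover (U := (⊤ : X.Opens))
    (by simpa using isCompact_univ)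
  obtain ⟨m, ⟨eκ⟩⟩ := Finite.exists_equiv_fin κ
  refine ⟨m, Fin.cases ⊥ fun i => V (eκ.symm i), fun i => ?_, top_le_iff.1 <| hcov.trans (iSup_le fun k =>
    le_iSup_of_le (Fin.succ (eκ k)) (by simp))⟩
  cases i using Fin.cases with
  | zero => exact isAffineOpen_bot X
  | succ i => exact hV _

theorem exists_quasiIso_lift (L : DRing.Cx A) (hL : ∀ i : ℤ, Projective (L.X i)) (c : ℤ)
    (hc : DRing.VanishesAbove L c) (K : DRing.Cx A) (q : DRing.toD L ≅ DRing.toD K) :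
    ∃ u : L ⟶ K, QuasiIso u := by
  haveI : CochainComplex.IsStrictlyLE L c := (CochainComplex.isStrictlyLE_iff _ _).2 hc
  haveI := hL
  haveI := CochainComplex.isKProjective_of_projective L c
  obtain ⟨w, hw⟩ := (CochainComplex.IsKProjective.Qh_map_bijective L
    ((HomotopyCategory.quotient _ _).obj K)).2 ((DerivedCategory.quotientCompQhIso _).hom.app L ≫ q.hom ≫
      (DerivedCategory.quotientCompQhIso _).inv.app K)
  obtain ⟨u, rfl⟩ := (HomotopyCategory.quotient _ _).map_surjective w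
  refine ⟨u, ?_⟩
  rw [← DerivedCategory.isIso_Q_map_iff_quasiIso]
  refine (NatIso.isIso_map_iff (DerivedCategory.quotientCompQhIso (ModuleCat.{u} A)) u).1 ?_
  show IsIso (DerivedCategory.Qh.map ((HomotopyCategory.quotient _ _).map u))
  rw [hw]
  infer_instance

variable [QuasiCompact f₁] [IsAffineHom (pullback.diagonal f₁)] [QuasiCompact f₂] [IsAffineHom (pullback.diagonal f₂)]

include sq in
/-- External products of quasi-isomorphisms, flat on the left, are quasi-isomorphisms. -/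
theorem quasiIso_extMap {P P' : CochainComplex X₁.Modules ℤ} (v : P ⟶ P') {Q Q' : CochainComplex X₂.Modules ℤ}
    (w : Q ⟶ Q') [QuasiIso v] [QuasiIso w] (hP : ∀ n, Coh.IsQCoh (P.X n)) (hP' : ∀ n, Coh.IsQCoh (P'.X n))
    (hQ : ∀ n, Coh.IsQCoh (Q.X n)) (hQ' : ∀ n, Coh.IsQCoh (Q'.X n))
    (fP : ∀ n, AffFlat f₁ (P.X n)) (fP' : ∀ n, AffFlat f₁ (P'.X n)) (a b : ℤ)
    (bP : ∀ i, a < i → IsZero (P.X i)) (bP' : ∀ i, a < i → IsZero (P'.X i))
    (bQ : ∀ i, b < i → IsZero (Q.X i)) (bQ' : ∀ i, b < i → IsZero (Q'.X i)) :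
    QuasiIso (extMap (p₁ := p₁) (p₂ := p₂) v w) := by
  refine quasiIso_of_secFun (p₁ ≫ f₁) _ (isQCoh_total _ fun p q => isQCoh_ext (hP p) (hQ q))
    (isQCoh_total _ fun p q => isQCoh_ext (hP' p) (hQ' q)) (boxes p₁ p₂) (isAffineOpen_boxes sq) exists_mem_boxes
    fun q => ?_
  obtain ⟨⟨U, hU⟩, ⟨V, hV⟩⟩ := q
  let S₁ := secFun f₁ U
  let S₂ := secFun f₂ V
  let S := secFun (p₁ ≫ f₁) (p₁ ⁻¹ᵁ U ⊓ p₂ ⁻¹ᵁ V)
  let K := fun (P : CochainComplex X₁.Modules ℤ) (Q : CochainComplex X₂.Modules ℤ) =>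
    pairMap (extBi p₁ p₂) S₁ S₂ S (kap sq inf_le_left inf_le_right) (kap_left sq inf_le_left inf_le_right)
      (kap_right sq inf_le_left inf_le_right) P Q
  have hk : ∀ (M : X₁.Modules) (N : X₂.Modules), Coh.IsQCoh M → Coh.IsQCoh N →
      IsIso (kap sq (inf_le_left : p₁ ⁻¹ᵁ U ⊓ p₂ ⁻¹ᵁ V ≤ p₁ ⁻¹ᵁ U) inf_le_right M N) :=
    fun M N hM hN => (kappaIso sq M N hM hN hU hV).isIso_hom
  haveI i1 : IsIso (K P Q) := isIso_pairMap _ _ _ _ _ _ _ P Q a b bP bQ fun p q => hk _ _ (hP p) (hQ q)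
  haveI i2 : IsIso (K P' Q') := isIso_pairMap _ _ _ _ _ _ _ P' Q' a b bP' bQ' fun p q => hk _ _ (hP' p) (hQ' q)
  haveI := quasiIso_secFun_map f₁ v hP hP' hU
  haveI := quasiIso_secFun_map f₂ w hQ hQ' hV
  have ht : QuasiIso (HomologicalComplex.tensorHom ((S₁.mapHomologicalComplex (ComplexShape.up ℤ)).map v)
      ((S₂.mapHomologicalComplex (ComplexShape.up ℤ)).map w)) :=
    quasiIso_tensorHom _ _ (fun n => fP n U hU) (fun n => fP' n U hU) ⟨a, fun i hi => S₁.map_isZero (bP i hi)⟩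
      ⟨a, fun i hi => S₁.map_isZero (bP' i hi)⟩
  have hn := pairMap_natural (extBi p₁ p₂) S₁ S₂ S (kap sq inf_le_left inf_le_right)
    (kap_left sq inf_le_left inf_le_right) (kap_right sq inf_le_left inf_le_right) P Q v w
  haveI := ht
  haveI iq : QuasiIso (K P Q) := inferInstance
  haveI iq' : QuasiIso (K P' Q') := inferInstance
  haveI h1 : QuasiIso (K P Q ≫ (S.mapHomologicalComplex (ComplexShape.up ℤ)).map (extMap v w)) := by
    change QuasiIso (pairMap (extBi p₁ p₂) S₁ S₂ S _ _ _ P Q ≫ _)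
    rw [← hn]
    exact quasiIso_comp (HomologicalComplex.tensorHom ((S₁.mapHomologicalComplex (ComplexShape.up ℤ)).map v)
      ((S₂.mapHomologicalComplex (ComplexShape.up ℤ)).map w)) (K P' Q')
  exact quasiIso_of_comp_left (K P Q) ((S.mapHomologicalComplex (ComplexShape.up ℤ)).map (extMap v w))

include sq in
/-- **Künneth for `RΓ` over an affine base.** -/
theorem computes_ext [HTor.HasRΓA f₁] [HTor.HasRΓA f₂] [HTor.HasRΓA (p₁ ≫ f₁)]
    (P₁ : CochainComplex X₁.Modules ℤ) (P₂ : CochainComplex X₂.Modules ℤ)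
    (hq₁ : ∀ i, Coh.IsQCoh (P₁.X i)) (hq₂ : ∀ i, Coh.IsQCoh (P₂.X i))
    (b₁ : ∃ b : ℤ, ∀ i, b < i → IsZero (P₁.X i)) (b₂ : ∃ b : ℤ, ∀ i, b < i → IsZero (P₂.X i))
    (hfl : ∀ i, AffFlat f₁ (P₁.X i)) (L₁ L₂ : DRing.Cx A) (hL₁ : ∀ i : ℤ, Projective (L₁.X i))
    (hL₂ : ∀ i : ℤ, Projective (L₂.X i)) (c₁ : ∃ c : ℤ, DRing.VanishesAbove L₁ c)
    (c₂ : ∃ c : ℤ, DRing.VanishesAbove L₂ c) (e₁ : HTor.Computes f₁ L₁ (DCoh.toD X₁ P₁))
    (e₂ : HTor.Computes f₂ L₂ (DCoh.toD X₂ P₂)) :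
    HTor.Computes (p₁ ≫ f₁) (HTor.tensorCx L₁ L₂)
      (DCoh.toD Z ((bicx (extBi p₁ p₂) P₁ P₂).total (ComplexShape.up ℤ))) := by
  haveI : QuasiCompact p₁ := MorphismProperty.of_isPullback (P := @QuasiCompact) sq ‹_›
  haveI := AffDiag22.affineDiag_of_isPullback sq
  haveI := AffDiag22.affineDiag_comp p₁ f₁
  haveI := AffDiag22.quasiSeparated_of_affineDiag f₁
  haveI := AffDiag22.quasiSeparated_of_affineDiag f₂
  haveI := AffDiag22.quasiSeparated_of_affineDiag (p₁ ≫ f₁)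
  obtain ⟨m₁, U₁, hU₁, hcov₁⟩ := exists_finite_cover f₁
  obtain ⟨m₂, U₂, hU₂, hcov₂⟩ := exists_finite_cover f₂
  obtain ⟨-, T₁, v₁, -, hT₁, -, hhi₁, hv₁, -⟩ := BCAcyc22.exists_acyclic f₁ m₁ U₁ hU₁ hcov₁ True P₁ hq₁
    (fun _ => hfl) (D := X₁.Modules)
  obtain ⟨-, T₂, v₂, -, hT₂, -, hhi₂, hv₂, -⟩ := BCAcyc22.exists_acyclic f₂ m₂ U₂ hU₂ hcov₂ False P₂ hq₂
    (fun h => h.elim) (D := X₂.Modules)
  obtain ⟨b₁, hb₁⟩ := b₁
  obtain ⟨b₂, hb₂⟩ := b₂
  haveI := hv₁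
  haveI := hv₂
  have bT₁ : ∀ i, b₁ + m₁ < i → IsZero (T₁.X i) := hhi₁ b₁ hb₁
  have bT₂ : ∀ i, b₂ + m₂ < i → IsZero (T₂.X i) := hhi₂ b₂ hb₂
  have hE : QuasiIso (extMap (p₁ := p₁) (p₂ := p₂) v₁ v₂) :=
    quasiIso_extMap sq v₁ v₂ hq₁ (fun n => (hT₁ n).1) hq₂ (fun n => (hT₂ n).1) hfl
      (fun n => (hT₁ n).2.1 trivial) (b₁ + m₁) (b₂ + m₂) (fun i hi => hb₁ i (by omega)) bT₁
      (fun i hi => hb₂ i (by omega)) bT₂
  haveI : IsAffineHom (pullback.diagonal (terminal.from X₁)) := AffDiag22.affineDiag_terminal f₁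
  haveI : IsAffineHom (pullback.diagonal (terminal.from X₂)) := AffDiag22.affineDiag_terminal f₂
  let V₁ : ULift.{u} (Fin (m₁ + 1)) → X₁.Opens := fun i => U₁ i.down
  let V₂ : ULift.{u} (Fin (m₂ + 1)) → X₂.Opens := fun i => U₂ i.down
  have hV₁ : iSup V₁ = ⊤ := by rw [← hcov₁]; exact Equiv.ulift.iSup_comp (g := U₁)
  have hV₂ : iSup V₂ = ⊤ := by rw [← hcov₂]; exact Equiv.ulift.iSup_comp (g := U₂)
  have hvan : ∀ p q, Cohom.VanishFrom (Coh.toAb (ext p₁ p₂ (T₁.X p) (T₂.X q))) ⊤ 1 := fun p q =>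
    vanish_ext sq V₁ (fun i => hU₁ _) hV₁ V₂ (fun i => hU₂ _) hV₂ _ (hT₁ p).1 ((hT₁ p).2.1 trivial) (hT₁ p).2.2
      _ (hT₂ q).1 (hT₂ q).2.2
  obtain ⟨eT⟩ := BCAcyc22.computes (p₁ ≫ f₁) ((bicx (extBi p₁ p₂) T₁ T₂).total (ComplexShape.up ℤ))
    (isQCoh_total _ fun p q => isQCoh_ext (hT₁ p).1 (hT₂ q).1)
    (vanishFrom_total _ ⊤ 1 (finite_of_bounded_above _ (b₁ + m₁) (b₂ + m₂) fun p q h => by
      rcases h with h | h
      · exact ((extBi p₁ p₂).map_isZero (bT₁ p h)).obj (T₂.X q)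
      · exact ((extBi p₁ p₂).obj (T₁.X p)).map_isZero (bT₂ q h)) hvan)
  -- global sections of the product
  let G₁ := ((secFun f₁ ⊤).mapHomologicalComplex (ComplexShape.up ℤ)).obj T₁
  let G₂ := ((secFun f₂ ⊤).mapHomologicalComplex (ComplexShape.up ℤ)).obj T₂
  have hK : IsIso (pairMap (extBi p₁ p₂) (secFun f₁ ⊤) (secFun f₂ ⊤) (secFun (p₁ ≫ f₁) ⊤)
      (kap sq le_top le_top) (kap_left sq le_top le_top) (kap_right sq le_top le_top) T₁ T₂) :=
    isIso_pairMap _ _ _ _ _ _ _ T₁ T₂ (b₁ + m₁) (b₂ + m₂) bT₁ bT₂ fun p q => by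
      haveI : (T₁.X p).IsQuasicoherent := (hT₁ p).1
      haveI : (T₂.X q).IsQuasicoherent := (hT₂ q).1
      rw [ConcreteCategory.isIso_iff_bijective]
      exact bijective_kappa_top sq (T₁.X p) (T₂.X q) V₁ V₂ hV₁ (fun n a => IsAffineOpen.iInf fun k => hU₁ _)
        hV₂ (fun n a => IsAffineOpen.iInf fun k => hU₂ _) ((hT₁ p).2.1 trivial) (hT₁ p).2.2
  have hfG : DRing.TermwiseFlat G₁ := fun n =>
    haveI : (T₁.X n).IsQuasicoherent := (hT₁ n).1
    flat_secTop f₁ V₁ (T₁.X n) hV₁ (fun n a => IsAffineOpen.iInf fun k => hU₁ _) ((hT₁ n).2.1 trivial) (hT₁ n).2.2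
  -- the two factors
  obtain ⟨eP₁⟩ := e₁
  obtain ⟨eP₂⟩ := e₂
  obtain ⟨eT₁⟩ := BCAcyc22.computes f₁ T₁ (fun n => (hT₁ n).1) fun n => (hT₁ n).2.2
  obtain ⟨eT₂⟩ := BCAcyc22.computes f₂ T₂ (fun n => (hT₂ n).1) fun n => (hT₂ n).2.2
  obtain ⟨c₁, hc₁⟩ := c₁
  obtain ⟨c₂, hc₂⟩ := c₂
  obtain ⟨u₁, hu₁⟩ := exists_quasiIso_lift L₁ hL₁ c₁ hc₁ G₁
    (eP₁ ≪≫ (HTor.RΓA f₁).mapIso (asIso (DerivedCategory.Q.map v₁)) ≪≫ eT₁.symm ≪≫
      DerivedCategory.Q.mapIso ((NatIso.mapHomologicalComplex (secTopIso f₁) _).app T₁))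
  obtain ⟨u₂, hu₂⟩ := exists_quasiIso_lift L₂ hL₂ c₂ hc₂ G₂
    (eP₂ ≪≫ (HTor.RΓA f₂).mapIso (asIso (DerivedCategory.Q.map v₂)) ≪≫ eT₂.symm ≪≫
      DerivedCategory.Q.mapIso ((NatIso.mapHomologicalComplex (secTopIso f₂) _).app T₂))
  haveI := hu₁
  haveI := hu₂
  have hflL : DRing.TermwiseFlat L₁ := fun i => by
    haveI : Module.Projective A (L₁.X i) := (IsProjective.iff_projective (R := A) (L₁.X i)).2 (hL₁ i)
    infer_instance
  haveI hu : QuasiIso (HomologicalComplex.tensorHom u₁ u₂) :=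
    quasiIso_tensorHom u₁ u₂ hflL hfG ⟨c₁, hc₁⟩ ⟨b₁ + m₁, fun i hi => (secFun f₁ ⊤).map_isZero (bT₁ i hi)⟩
  haveI := hK
  haveI := hE
  exact ⟨asIso (DerivedCategory.Q.map (HomologicalComplex.tensorHom u₁ u₂)) ≪≫
    DerivedCategory.Q.mapIso (asIso (pairMap (extBi p₁ p₂) (secFun f₁ ⊤) (secFun f₂ ⊤) (secFun (p₁ ≫ f₁) ⊤)
      (kap sq le_top le_top) (kap_left sq le_top le_top) (kap_right sq le_top le_top) T₁ T₂)) ≪≫
    DerivedCategory.Q.mapIso ((NatIso.mapHomologicalComplex (secTopIso (p₁ ≫ f₁)) _).app _).symm ≪≫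
    eT ≪≫ (HTor.RΓA (p₁ ≫ f₁)).mapIso (asIso (DerivedCategory.Q.map (extMap v₁ v₂))).symm⟩

end GrothLib.KunExt22
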