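import Groth.Agent.Lib.BCAcyc22.Main
import Groth.Agent.Lib.OX.AffineReflect
import Groth.Agent.Lib.QCoh.Extension
import Groth.Agent.Lib.DerCat.Acyclic

/-! # Exactness of quasi-coherent complexes is detected by sections on an affine cover -/

set_option autoImplicit false
set_option maxHeartbeats 800000
universe u

open CategoryTheory CategoryTheory.Limits AlgebraicGeometry Opposite

namespace GrothLib.KunExt22

variable {A : Type u} [CommRing A] {X : Scheme.{u}} (f : X ⟶ Spec (CommRingCat.of A))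

/-- Sections over `V`, linear over the base. -/
noncomputable def secFun (V : X.Opens) : X.Modules ⥤ ModuleCat.{u} A where
  obj G := BCCoh.secA f G V
  map a := ConcreteCategory.ofHom (BCCoh.appA f a V)
  map_id _ := rfl
  map_comp _ _ := rfl

instance (V : X.Opens) : (secFun f V).Additive where
  map_add := rfl

theorem exact_of_sections_affine {S : ShortComplex X.Modules} (h₁ : Coh.IsQCoh S.X₁) (h₂ : Coh.IsQCoh S.X₂)
    (h₃ : Coh.IsQCoh S.X₃) {I : Type*} (W : I → X.Opens) (hW : ∀ i, IsAffineOpen (W i))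
    (hcov : ∀ x : X, ∃ i, x ∈ W i)
    (h : ∀ i (b : Γ(S.X₂, W i)), S.g.app (W i) b = 0 → ∃ a, S.f.app (W i) a = b) : S.Exact := by
  haveI : S.X₁.IsQuasicoherent := h₁
  haveI : S.X₂.IsQuasicoherent := h₂
  haveI : S.X₃.IsQuasicoherent := h₃
  rw [S.exact_iff_epi_kernel_lift]
  let K := kernel S.g
  haveI : K.IsQuasicoherent := QCoh.isQuasicoherent_kernel S.g
  let c : S.X₁ ⟶ K := kernel.lift S.g S.f S.zero
  let Q := cokernel c
  haveI : Q.IsQuasicoherent := QCoh.isQuasicoherent_cokernel c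
  let T := ShortComplex.mk (kernel.ι (cokernel.π c)) (cokernel.π c) (kernel.condition _)
  have hT : T.ShortExact :=
    { exact := ShortComplex.exact_of_f_is_kernel _ (kernelIsKernel _)
      mono_f := inferInstanceAs (Mono (kernel.ι (cokernel.π c)))
      epi_g := inferInstanceAs (Epi (cokernel.π c)) }
  haveI : T.X₁.IsQuasicoherent := QCoh.isQuasicoherent_kernel (cokernel.π c)
  let L := ShortComplex.mk (kernel.ι S.g) _ (cokernel.condition (kernel.ι S.g))
  have hL : L.ShortExact :=
    { exact := ShortComplex.exact_of_g_is_cokernel _ (cokernelIsCokernel _)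
      mono_f := inferInstanceAs (Mono (kernel.ι S.g))
      epi_g := inferInstanceAs (Epi (cokernel.π _)) }
  have hQ : IsZero Q := OX.isZero_of_affine_cover ‹Q.IsQuasicoherent› W hW hcov fun i t => by
    obtain ⟨k, rfl⟩ := QCoh.app_surjective_of_isAffineOpen hT (hW i) t
    have hk : S.g.app (W i) ((kernel.ι S.g).app (W i) k) = 0 :=
      congrArg (fun a : K ⟶ S.X₃ => a.app (W i) k) (kernel.condition S.g)
    obtain ⟨a, ha⟩ := h i _ hk
    have hca : c.app (W i) a = k := QCoh.app_injective hL (W i)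
      ((congrArg (fun b : S.X₁ ⟶ S.X₂ => b.app (W i) a) (kernel.lift_ι S.g S.f S.zero)).trans ha)
    rw [← hca]
    exact congrArg (fun b : S.X₁ ⟶ Q => b.app (W i) a) (cokernel.condition c)
  exact Abelian.epi_of_cokernel_π_eq_zero c (hQ.eq_of_tgt _ _)

theorem exact_of_secFun {S : ShortComplex X.Modules} (h₁ : Coh.IsQCoh S.X₁) (h₂ : Coh.IsQCoh S.X₂)
    (h₃ : Coh.IsQCoh S.X₃) {I : Type*} (W : I → X.Opens) (hW : ∀ i, IsAffineOpen (W i))
    (hcov : ∀ x : X, ∃ i, x ∈ W i) (h : ∀ i, (S.map (secFun f (W i))).Exact) : S.Exact :=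
  exact_of_sections_affine h₁ h₂ h₃ W hW hcov fun i b hb =>
    (ShortComplex.moduleCat_exact_iff _).1 (h i) b hb

/-- Short exactness from sections. -/
theorem shortExact_of_secFun {S : ShortComplex X.Modules} (h₁ : Coh.IsQCoh S.X₁) (h₂ : Coh.IsQCoh S.X₂)
    (h₃ : Coh.IsQCoh S.X₃) {I : Type*} (W : I → X.Opens) (hW : ∀ i, IsAffineOpen (W i))
    (hcov : ∀ x : X, ∃ i, x ∈ W i) (h : ∀ i, (S.map (secFun f (W i))).ShortExact) : S.ShortExact where
  exact := exact_of_secFun f h₁ h₂ h₃ W hW hcov fun i => (h i).exact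
  mono_f := by
    refine (ShortComplex.exact_iff_mono (ShortComplex.mk (0 : S.X₁ ⟶ S.X₁) S.f zero_comp) rfl).1
      (exact_of_secFun f h₁ h₁ h₂ W hW hcov fun i => ?_)
    have := (h i).mono_f
    exact (ShortComplex.exact_iff_mono _ ((secFun f (W i)).map_zero _ _)).2 this
  epi_g := by
    refine (ShortComplex.exact_iff_epi (ShortComplex.mk S.g (0 : S.X₃ ⟶ S.X₃) comp_zero) rfl).1
      (exact_of_secFun f h₂ h₃ h₃ W hW hcov fun i => ?_)
    have := (h i).epi_g
    exact (ShortComplex.exact_iff_epi _ ((secFun f (W i)).map_zero _ _)).2 this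

theorem isQCoh_mappingCone_X {K L : CochainComplex X.Modules ℤ} (g : K ⟶ L) (hK : ∀ n, Coh.IsQCoh (K.X n))
    (hL : ∀ n, Coh.IsQCoh (L.X n)) (n : ℤ) : Coh.IsQCoh ((CochainComplex.mappingCone g).X n) := by
  haveI : (L.X n).IsQuasicoherent := hL n
  haveI : (K.X (n + 1)).IsQuasicoherent := hK (n + 1)
  let S := ShortComplex.mk ((CochainComplex.mappingCone.inr g).f n)
    ((CochainComplex.mappingCone.fst g).1.v n (n + 1) rfl) (CochainComplex.mappingCone.inr_f_fst_v g _ _ _)
  let σ : S.Splitting :=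
    { r := (CochainComplex.mappingCone.snd g).v n n (add_zero n)
      s := (CochainComplex.mappingCone.inl g).v (n + 1) n (by omega)
      f_r := CochainComplex.mappingCone.inr_f_snd_v g n
      s_g := CochainComplex.mappingCone.inl_v_fst_v g _ _ _
      id := (add_comm _ _).trans (CochainComplex.mappingCone.id_X g n (n + 1) rfl) }
  haveI : S.X₁.IsQuasicoherent := hL n
  haveI : S.X₃.IsQuasicoherent := hK (n + 1)
  exact QCoh.isQuasicoherent_X₂ σ.shortExact

/-- Quasi-isomorphisms of quasi-coherent complexes are detected by sections on affine opens. -/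
theorem quasiIso_of_secFun {K L : CochainComplex X.Modules ℤ} (g : K ⟶ L) (hK : ∀ n, Coh.IsQCoh (K.X n))
    (hL : ∀ n, Coh.IsQCoh (L.X n)) {I : Type*} (W : I → X.Opens) (hW : ∀ i, IsAffineOpen (W i))
    (hcov : ∀ x : X, ∃ i, x ∈ W i)
    (h : ∀ i, QuasiIso (((secFun f (W i)).mapHomologicalComplex (ComplexShape.up ℤ)).map g)) : QuasiIso g := by
  rw [DerCat.quasiIso_iff_acyclic_mappingCone]
  intro n
  refine exact_of_secFun f (isQCoh_mappingCone_X g hK hL _) (isQCoh_mappingCone_X g hK hL _)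
    (isQCoh_mappingCone_X g hK hL _) W hW hcov fun i => ?_
  have h1 := (DerCat.quasiIso_iff_acyclic_mappingCone _).1 (h i) n
  exact h1.of_iso (CochainComplex.mappingCone.mapHomologicalComplexIso g (secFun f (W i))).symm

end GrothLib.KunExt22
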