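import Groth.Agent.Lib.KunExt22.Main
import Groth.Agent.Lib.BCAcyc22.FreeRes
import Groth.Agent.Lib.KInj.Derived

/-! # Tensoring with a complex of modules over the base ring -/

set_option autoImplicit false
set_option linter.style.haveILetI false
set_option maxHeartbeats 1000000
set_option backward.isDefEq.respectTransparency false
universe u

open CategoryTheory CategoryTheory.Limits AlgebraicGeometry Opposite MonoidalCategory

attribute [local instance] HasDerivedCategory.standard

noncomputable section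

namespace GrothLib.KunExt22

variable {A : Type u} [CommRing A]

/-- Global sections of an associated sheaf on the spectrum. -/
def tildeSectionsIso :
    tilde.functor (CommRingCat.of A) ⋙ HTor.globalSectionsA (𝟙 (Spec (CommRingCat.of A))) ≅ 𝟭 (ModuleCat.{u} A) :=
  Functor.isoWhiskerLeft _ (Functor.isoWhiskerRight (Scheme.Modules.pushforwardId _) moduleSpecΓFunctor) ≪≫
    (tilde.toTildeΓNatIso (R := CommRingCat.of A)).symm

/-- A complex of modules computes the derived sections of its associated sheaves. -/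
theorem computes_tilde [HTor.HasRΓA (𝟙 (Spec (CommRingCat.of A)))] (L Q : DRing.Cx A) (u : L ⟶ Q) [QuasiIso u] :
    HTor.Computes (𝟙 (Spec (CommRingCat.of A))) L
      (DCoh.toD _ (((tilde.functor (CommRingCat.of A)).mapHomologicalComplex (ComplexShape.up ℤ)).obj Q)) := by
  obtain ⟨e⟩ := BCAcyc22.computes (𝟙 (Spec (CommRingCat.of A)))
    (((tilde.functor (CommRingCat.of A)).mapHomologicalComplex (ComplexShape.up ℤ)).obj Q)
    (fun n => inferInstanceAs (tilde (R := CommRingCat.of A) (Q.X n)).IsQuasicoherent) (fun n m hm => by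
      obtain ⟨k, rfl⟩ := Nat.exists_eq_succ_of_ne_zero (by omega : m ≠ 0)
      haveI : (((((tilde.functor (CommRingCat.of A)).mapHomologicalComplex (ComplexShape.up ℤ)).obj Q).X n)).IsQuasicoherent :=
        inferInstanceAs (tilde (R := CommRingCat.of A) (Q.X n)).IsQuasicoherent
      exact Cohom.subsingleton_ext_freeFun_of_isAffineOpen (isAffineOpen_top _) _ k)
  exact ⟨asIso (DerivedCategory.Q.map u) ≪≫
    DerivedCategory.Q.mapIso ((NatIso.mapHomologicalComplex (tildeSectionsIso (A := A)) _).app Q).symm ≪≫ e⟩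

theorem computes_congr {X : Scheme.{u}} {f f' : X ⟶ Spec (CommRingCat.of A)} (h : f = f') [HTor.HasRΓA f]
    [HTor.HasRΓA f'] {L : DRing.Cx A} {K : DCoh.D X} (e : HTor.Computes f L K) : HTor.Computes f' L K := by
  subst h; exact e

/-- **One factor: tensoring with a complex over the base.** -/
theorem computes_tensorA {X : Scheme.{u}} (f : X ⟶ Spec (CommRingCat.of A)) [QuasiCompact f] [IsSeparated f]
    [HTor.HasRΓA f] (P : CochainComplex X.Modules ℤ) (hq : ∀ i, Coh.IsQCoh (P.X i))
    (bP : ∃ b : ℤ, ∀ i, b < i → IsZero (P.X i)) (hfl : ∀ i, BCAcyc22.AffFlat f (P.X i))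
    (L : DRing.Cx A) (hL : ∀ i : ℤ, Projective (L.X i)) (c : ∃ c : ℤ, DRing.VanishesAbove L c)
    (e : HTor.Computes f L (DCoh.toD X P)) (Q : DRing.Cx A) (bQ : ∃ b : ℤ, DRing.VanishesAbove Q b) :
    HTor.Computes f (HTor.tensorCx L Q) (DCoh.toD X (HTor.tensorACx f P Q)) := by
  obtain ⟨b, hb⟩ := bQ
  obtain ⟨c, hc⟩ := c
  obtain ⟨L₂, u, hfree, hz, hu⟩ := BCAcyc22.exists_free_resolution Q (b + 1) fun i hi => hb i (by omega)
  haveI := hu
  have hL₂ : ∀ i, Projective (L₂.X i) := fun i => by
    haveI := hfree i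
    haveI : Module.Projective A (L₂.X i) := Module.Projective.of_free
    exact (IsProjective.iff_projective (R := A) (L₂.X i)).1 ‹_›
  haveI : HTor.HasRΓA (𝟙 (Spec (CommRingCat.of A))) := KInj.hasRightDerivedFunctor (A := (Spec (CommRingCat.of A)).Modules) _
  haveI : HTor.HasRΓA (𝟙 X ≫ f) := KInj.hasRightDerivedFunctor (A := X.Modules) _
  have sq : IsPullback f (𝟙 X) (𝟙 (Spec (CommRingCat.of A))) f := IsPullback.of_vert_isIso ⟨by simp⟩
  have h := computes_ext sq P (((tilde.functor (CommRingCat.of A)).mapHomologicalComplex (ComplexShape.up ℤ)).obj Q)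
    hq (fun n => inferInstanceAs (tilde (R := CommRingCat.of A) (Q.X n)).IsQuasicoherent) bP
    ⟨b, fun i hi => (tilde.functor (CommRingCat.of A)).map_isZero (hb i hi)⟩ hfl L L₂ hL hL₂ ⟨c, hc⟩
    ⟨b, fun i hi => hz i (by omega)⟩ e (computes_tilde L₂ Q u)
  obtain ⟨e'⟩ := computes_congr (Category.id_comp f) h
  have hflL : DRing.TermwiseFlat L := fun i => by
    haveI : Module.Projective A (L.X i) := (IsProjective.iff_projective (R := A) (L.X i)).2 (hL i)
    infer_instance
  haveI : QuasiIso (HomologicalComplex.tensorHom (𝟙 L) u) :=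
    quasiIso_tensorHom (𝟙 L) u hflL hflL ⟨c, hc⟩ ⟨c, hc⟩
  exact ⟨(asIso (DerivedCategory.Q.map (HomologicalComplex.tensorHom (𝟙 L) u))).symm ≪≫ e' ≪≫
    (HTor.RΓA f).mapIso (DerivedCategory.Q.mapIso (((DCoh.tensorCx (X := X)).mapIso
      ((NatIso.mapHomologicalComplex (Scheme.Modules.pullbackId X) (ComplexShape.up ℤ)).app P)).app
        ((HTor.ofModuleCx f).obj Q)))⟩

end GrothLib.KunExt22
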