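import Groth.Agent.Lib.OX.ProjCx
import Groth.Agent.Lib.DCxKFlat.TensorSymm
import Groth.Agent.Lib.DCxKFlat.Balance
import Groth.Prelude.Def_HTor

/-! # Additive functors and totals of bicomplexes bounded above -/

set_option autoImplicit false
set_option maxHeartbeats 1000000
universe v v' w w' u

open CategoryTheory CategoryTheory.Limits HomologicalComplex MonoidalCategory

namespace GrothLib.KunExt22

section Map

variable {C : Type w} [Category.{v} C] [Preadditive C] {D : Type w'} [Category.{v'} D] [Preadditive D]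
  (G : C ⥤ D) [G.Additive]
  [∀ J : Type, HasColimitsOfShape (Discrete J) C] [∀ J : Type, HasColimitsOfShape (Discrete J) D]

open TotalMap in
open scoped Classical in
/-- An additive functor commutes with totals of bicomplexes with finitely many terms in each degree. -/
theorem isIso_totalMap_of_finite (B : HomologicalComplex₂ C (ComplexShape.up ℤ) (ComplexShape.up ℤ))
    (hB : ∀ n : ℤ, ∃ s : Finset ℤ, ∀ p, p ∉ s → IsZero ((B.X p).X (n - p))) : IsIso (totalMap G B) := by
  have : ∀ n, IsIso ((totalMap G B).f n) := fun n => by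
    obtain ⟨s, hs⟩ := hB n
    let π : ∀ p, (B.total (ComplexShape.up ℤ)).X n ⟶ (B.X p).X (n - p) := fun p =>
      B.totalDesc fun p' q h => if hp : p' = p then eqToHom (by
        subst hp
        have h' : p' + q = n := h
        rw [show q = n - p' by omega]) else 0
    let r : G.obj ((B.total (ComplexShape.up ℤ)).X n) ⟶ ((mapBicx G B).total (ComplexShape.up ℤ)).X n :=
      ∑ p ∈ s, G.map (π p) ≫ (mapBicx G B).ιTotal (ComplexShape.up ℤ) p (n - p) n (show p + (n - p) = n by omega)
    have hπ : ∑ p ∈ s, π p ≫ B.ιTotal (ComplexShape.up ℤ) p (n - p) n (show p + (n - p) = n by omega) =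
        𝟙 ((B.total (ComplexShape.up ℤ)).X n) := by
      refine HomologicalComplex₂.total.hom_ext _ fun p q h => ?_
      have h' : p + q = n := h
      obtain rfl : q = n - p := by omega
      by_cases hp : p ∈ s
      · rw [Preadditive.comp_sum, Finset.sum_eq_single_of_mem p hp]
        · simp [π]
        · intro b _ hb
          simp [π, Ne.symm hb]
          try rfl
      · exact (hs p hp).eq_of_src _ _
    refine ⟨r, HomologicalComplex₂.total.hom_ext _ fun p q h => ?_, ?_⟩
    · have h' : p + q = n := h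
      obtain rfl : q = n - p := by omega
      simp only [totalMap]
      erw [HomologicalComplex₂.ι_totalDesc_assoc, Category.comp_id]
      by_cases hp : p ∈ s
      · simp only [r]
        refine (Preadditive.comp_sum _ _ _).trans ((Finset.sum_eq_single_of_mem p hp ?_).trans ?_)
        · intro b _ hb
          erw [← G.map_comp_assoc]
          simp [π, Ne.symm hb]
          try rfl
        · erw [← G.map_comp_assoc]
          simp [π]
      · exact (G.map_isZero (hs p hp)).eq_of_src _ _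
    · simp only [totalMap, r]
      refine ((Preadditive.sum_comp _ _ _).trans ((Finset.sum_congr rfl fun p _ => ?_).trans
        (G.map_sum _ s).symm)).trans ((congrArg G.map hπ).trans (G.map_id _))
      refine (Category.assoc _ _ _).trans ((congrArg (G.map (π p) ≫ ·) ?_).trans (G.map_comp _ _).symm)
      exact (mapBicx G B).ι_totalDesc (fun p q h => G.map (B.ιTotal (ComplexShape.up ℤ) p q n h)) p (n - p)
        (show p + (n - p) = n by omega)
  exact HomologicalComplex.Hom.isIso_of_components _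

theorem finite_of_bounded_above (B : HomologicalComplex₂ C (ComplexShape.up ℤ) (ComplexShape.up ℤ)) (a b : ℤ)
    (hB : ∀ p q : ℤ, a < p ∨ b < q → IsZero ((B.X p).X q)) (n : ℤ) :
    ∃ s : Finset ℤ, ∀ p, p ∉ s → IsZero ((B.X p).X (n - p)) :=
  ⟨Finset.Icc (n - b) a, fun p hp => hB p (n - p) (by rw [Finset.mem_Icc] at hp; omega)⟩

end Map

section Pairing

variable {A : Type u} [CommRing A] {C₁ : Type w} [Category.{v} C₁] [Preadditive C₁] {C₂ : Type w'}
  [Category.{v'} C₂] [Preadditive C₂] {C : Type (u + 1)} [Category.{u} C] [Preadditive C] [HasZeroObject C]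
  [∀ J : Type, HasColimitsOfShape (Discrete J) C]
  (Ψ : C₁ ⥤ C₂ ⥤ C) [Ψ.Additive] [∀ M, (Ψ.obj M).Additive]
  (S₁ : C₁ ⥤ ModuleCat.{u} A) [S₁.Additive] (S₂ : C₂ ⥤ ModuleCat.{u} A) [S₂.Additive]
  (S : C ⥤ ModuleCat.{u} A) [S.Additive]
  (κ : ∀ M N, S₁.obj M ⊗ S₂.obj N ⟶ S.obj ((Ψ.obj M).obj N))
  (hl : ∀ {M M' : C₁} (a : M ⟶ M') (N : C₂), (S₁.map a ▷ S₂.obj N) ≫ κ M' N = κ M N ≫ S.map ((Ψ.map a).app N))
  (hr : ∀ (M : C₁) {N N' : C₂} (b : N ⟶ N'), (S₁.obj M ◁ S₂.map b) ≫ κ M N' = κ M N ≫ S.map ((Ψ.obj M).map b))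
  (P : CochainComplex C₁ ℤ) (Q : CochainComplex C₂ ℤ)

/-- The bicomplex of a bifunctor. -/
noncomputable abbrev bicx : HomologicalComplex₂ C (ComplexShape.up ℤ) (ComplexShape.up ℤ) :=
  ((Ψ.mapBifunctorHomologicalComplex (ComplexShape.up ℤ) (ComplexShape.up ℤ)).obj P).obj Q

/-- The bicomplex of the tensor products of the images. -/
noncomputable abbrev tensBicx : HomologicalComplex₂ (ModuleCat.{u} A) (ComplexShape.up ℤ) (ComplexShape.up ℤ) :=
  bicx (curriedTensor (ModuleCat.{u} A)) ((S₁.mapHomologicalComplex (ComplexShape.up ℤ)).obj P)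
    ((S₂.mapHomologicalComplex (ComplexShape.up ℤ)).obj Q)

/-- The comparison of bicomplexes. -/
noncomputable def bicxMap : tensBicx S₁ S₂ P Q ⟶ TotalMap.mapBicx S (bicx Ψ P Q) where
  f p :=
    { f := fun q => κ (P.X p) (Q.X q)
      comm' := fun q q' _ => (hr (P.X p) (Q.d q q')).symm }
  comm' p p' _ := HomologicalComplex.hom_ext _ _ fun q => (hl (P.d p p') (Q.X q)).symm

/-- The comparison of totals. -/
noncomputable def pairMap :
    ((curriedTensor (ModuleCat.{u} A)).map₂CochainComplex.obj ((S₁.mapHomologicalComplex (ComplexShape.up ℤ)).obj P)).obj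
        ((S₂.mapHomologicalComplex (ComplexShape.up ℤ)).obj Q) ⟶
      (S.mapHomologicalComplex (ComplexShape.up ℤ)).obj ((bicx Ψ P Q).total (ComplexShape.up ℤ)) :=
  HomologicalComplex₂.total.map (bicxMap Ψ S₁ S₂ S κ hl hr P Q) (ComplexShape.up ℤ) ≫ TotalMap.totalMap _ _

theorem isIso_pairMap (a b : ℤ) (hP : ∀ p, a < p → IsZero (P.X p)) (hQ : ∀ q, b < q → IsZero (Q.X q))
    (hκ : ∀ p q, IsIso (κ (P.X p) (Q.X q))) : IsIso (pairMap Ψ S₁ S₂ S κ hl hr P Q) := by
  haveI : ∀ p, IsIso ((bicxMap Ψ S₁ S₂ S κ hl hr P Q).f p) := fun p =>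
    haveI : ∀ q, IsIso (((bicxMap Ψ S₁ S₂ S κ hl hr P Q).f p).f q) := fun q => hκ p q
    HomologicalComplex.Hom.isIso_of_components _
  haveI : IsIso (bicxMap Ψ S₁ S₂ S κ hl hr P Q) := HomologicalComplex.Hom.isIso_of_components _
  haveI h1 : IsIso (HomologicalComplex₂.total.map (bicxMap Ψ S₁ S₂ S κ hl hr P Q) (ComplexShape.up ℤ)) :=
    ((HomologicalComplex₂.total.mapIso (asIso (bicxMap Ψ S₁ S₂ S κ hl hr P Q)) (ComplexShape.up ℤ))).isIso_hom
  haveI h2 := isIso_totalMap_of_finite S (bicx Ψ P Q) (finite_of_bounded_above _ a b (fun p q h => by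
    rcases h with h | h
    · exact (Ψ.map_isZero (hP p h)).obj (Q.X q)
    · exact (Ψ.obj (P.X p)).map_isZero (hQ q h)))
  exact @IsIso.comp_isIso _ _ _ _ _ _ _ h1 h2

theorem pairMap_natural {P' : CochainComplex C₁ ℤ} (φ : P ⟶ P') {Q' : CochainComplex C₂ ℤ} (ψ : Q ⟶ Q') :
    HomologicalComplex₂.total.map
        ((((curriedTensor (ModuleCat.{u} A)).mapBifunctorHomologicalComplex _ _).map
            ((S₁.mapHomologicalComplex (ComplexShape.up ℤ)).map φ)).app _ ≫
          (((curriedTensor (ModuleCat.{u} A)).mapBifunctorHomologicalComplex _ _).obj _).map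
            ((S₂.mapHomologicalComplex (ComplexShape.up ℤ)).map ψ)) (ComplexShape.up ℤ) ≫
      pairMap Ψ S₁ S₂ S κ hl hr P' Q' =
    pairMap Ψ S₁ S₂ S κ hl hr P Q ≫ (S.mapHomologicalComplex (ComplexShape.up ℤ)).map
      (HomologicalComplex₂.total.map
        (((Ψ.mapBifunctorHomologicalComplex _ _).map φ).app Q ≫
          ((Ψ.mapBifunctorHomologicalComplex _ _).obj P').map ψ) (ComplexShape.up ℤ)) := by
  unfold pairMap
  refine (Category.assoc _ _ _).symm.trans ((congrArg (· ≫ TotalMap.totalMap S (bicx Ψ P' Q'))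
    ((HomologicalComplex₂.total.map_comp _ _ _).symm.trans
      (congrArg (fun t => HomologicalComplex₂.total.map t (ComplexShape.up ℤ))
        (?_ : _ = bicxMap Ψ S₁ S₂ S κ hl hr P Q ≫
          ((S.mapHomologicalComplex (ComplexShape.up ℤ)).mapHomologicalComplex (ComplexShape.up ℤ)).map
            (((Ψ.mapBifunctorHomologicalComplex _ _).map φ).app Q ≫
              ((Ψ.mapBifunctorHomologicalComplex _ _).obj P').map ψ))))).trans ?_)
  swap
  · refine (congrArg (· ≫ TotalMap.totalMap S (bicx Ψ P' Q')) (HomologicalComplex₂.total.map_comp _ _ _)).trans ?_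
    refine (Category.assoc _ _ _).trans ((congrArg (_ ≫ ·) (TotalMap.totalMap_natural S _)).trans ?_)
    exact (Category.assoc _ _ _).symm
  refine HomologicalComplex.hom_ext _ _ fun p => HomologicalComplex.hom_ext _ _ fun q => ?_
  show ((S₁.map (φ.f p) ▷ S₂.obj (Q.X q)) ≫ (S₁.obj (P'.X p) ◁ S₂.map (ψ.f q))) ≫ κ (P'.X p) (Q'.X q) =
    κ (P.X p) (Q.X q) ≫ S.map ((Ψ.map (φ.f p)).app (Q.X q) ≫ (Ψ.obj (P'.X p)).map (ψ.f q))
  rw [Category.assoc, hr, S.map_comp, ← Category.assoc, hl, Category.assoc]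

end Pairing

section Flat

variable {A : Type u} [CommRing A]

/-- A quasi-isomorphism between bounded above complexes of flat modules stays one after tensoring. -/
theorem quasiIso_tensor_flat {K K' : DRing.Cx A} (u : K ⟶ K') [QuasiIso u] (hK : DRing.TermwiseFlat K)
    (hK' : DRing.TermwiseFlat K') (bK : ∃ b, DRing.VanishesAbove K b) (bK' : ∃ b, DRing.VanishesAbove K' b)
    (Q : DRing.Cx A) : QuasiIso (HomologicalComplex.tensorHom u (𝟙 Q)) := by
  obtain ⟨b, hb⟩ := bK
  obtain ⟨b', hb'⟩ := bK'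
  have h0 := KF.quasiIso_tensor_map u (KF.isKFlat_of_vanishesAbove hb hK) (KF.isKFlat_of_vanishesAbove hb' hK') Q
  have h : QuasiIso (((KF.tensorCx (R := A)).flip.obj Q).map u) :=
    (quasiIso_iff_of_arrow_mk_iso _ _ (Arrow.isoMk ((KF.tensorFlipIso Q).app K) ((KF.tensorFlipIso Q).app K')
      ((KF.tensorFlipIso Q).hom.naturality u).symm)).2 h0
  exact h

end Flat

end GrothLib.KunExt22
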