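import Groth.Agent.Lib.KunExt22.Global
import Groth.Agent.Lib.DCxKFlat.Base

/-! # External tensor products of modules without higher cohomology -/

set_option autoImplicit false
set_option linter.style.haveILetI false
set_option maxHeartbeats 1000000
set_option backward.isDefEq.respectTransparency false
universe u

open CategoryTheory CategoryTheory.Limits AlgebraicGeometry Opposite TopologicalSpace TensorProduct MonoidalCategory
open GrothLib.BCCoh (secA resA appA)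
open GrothLib.BCAcyc22 (AffFlat cechStep cechG)

noncomputable section

namespace GrothLib.KunExt22

theorem shortExact_secFun {A : Type u} [CommRing A] {X : Scheme.{u}} (f : X ⟶ Spec (CommRingCat.of A))
    {S : ShortComplex X.Modules} (hS : S.ShortExact) (h₁ : Coh.IsQCoh S.X₁) {U : X.Opens} (hU : IsAffineOpen U) :
    (S.map (secFun f U)).ShortExact where
  exact := (ShortComplex.moduleCat_exact_iff _).2 fun b hb => QCoh.app_exact hS U b hb
  mono_f := (ModuleCat.mono_iff_injective _).2 (QCoh.app_injective hS U)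
  epi_g := (ModuleCat.epi_iff_surjective _).2
    (haveI : S.X₁.IsQuasicoherent := h₁; QCoh.app_surjective_of_isAffineOpen hS hU)

theorem vanishFrom_one_of_shortExact {X : Scheme.{u}} {S : ShortComplex X.Modules} (hS : S.ShortExact)
    {U : X.Opens} (h₂ : Cohom.VanishFrom (Coh.toAb S.X₂) U 1) (hsurj : Function.Surjective (S.g.app U)) :
    Subsingleton (Abelian.Ext.{u} (Cohom.freeFun.obj U) (Coh.toAb S.X₁) 1) := by
  refine subsingleton_of_forall_eq 0 fun x => ?_
  have hS' := QCoh.toAbFun_map_shortExact S hS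
  haveI : Subsingleton (Abelian.Ext.{u} (Cohom.freeFun.obj U) (S.map (QCoh.toAbFun X)).X₂ 1) := h₂ 1 le_rfl
  obtain ⟨y, rfl⟩ := Abelian.Ext.covariant_sequence_exact₁ (Cohom.freeFun.obj U) hS' x (Subsingleton.elim _ _)
    (n₀ := 0) rfl
  obtain ⟨b, hb⟩ := hsurj (Cohom.H0Equiv _ U y)
  obtain ⟨z, rfl⟩ : ∃ z : Abelian.Ext.{u} (Cohom.freeFun.obj U) (S.map (QCoh.toAbFun X)).X₂ 0,
      z.comp (Abelian.Ext.mk₀ (S.map (QCoh.toAbFun X)).g) (add_zero 0) = y :=
    ⟨(Cohom.H0Equiv _ U).symm b, (Cohom.H0Equiv _ U).injective (by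
      refine (Cohom.H0Equiv_comp_mk₀ _ U _).trans ?_
      rw [AddEquiv.apply_symm_apply]
      exact hb)⟩
  rw [Abelian.Ext.comp_assoc_of_second_deg_zero, hS'.comp_extClass, Abelian.Ext.comp_zero]

theorem subsingleton_succ_of_shortExact {X : Scheme.{u}} {S : ShortComplex X.Modules} (hS : S.ShortExact)
    {U : X.Opens} (h₂ : Cohom.VanishFrom (Coh.toAb S.X₂) U 1) {n : ℕ}
    (h₃ : Subsingleton (Abelian.Ext.{u} (Cohom.freeFun.obj U) (Coh.toAb S.X₃) (n + 1))) :
    Subsingleton (Abelian.Ext.{u} (Cohom.freeFun.obj U) (Coh.toAb S.X₁) (n + 2)) := by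
  refine subsingleton_of_forall_eq 0 fun x => ?_
  have hS' := QCoh.toAbFun_map_shortExact S hS
  haveI : Subsingleton (Abelian.Ext.{u} (Cohom.freeFun.obj U) (S.map (QCoh.toAbFun X)).X₂ (n + 2)) :=
    h₂ (n + 2) (by omega)
  haveI : Subsingleton (Abelian.Ext.{u} (Cohom.freeFun.obj U) (S.map (QCoh.toAbFun X)).X₃ (n + 1)) := h₃
  obtain ⟨y, rfl⟩ := Abelian.Ext.covariant_sequence_exact₁ (Cohom.freeFun.obj U) hS' x (Subsingleton.elim _ _)
    (n₀ := n + 1) rfl
  rw [Subsingleton.elim y 0, Abelian.Ext.zero_comp]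

variable {A : Type u} [CommRing A] {X₁ X₂ Z : Scheme.{u}}
  {f₁ : X₁ ⟶ Spec (CommRingCat.of A)} {f₂ : X₂ ⟶ Spec (CommRingCat.of A)} {p₁ : Z ⟶ X₁} {p₂ : Z ⟶ X₂}
  (sq : IsPullback p₂ p₁ f₂ f₁)

theorem isQCoh_ext {G : X₁.Modules} {F : X₂.Modules} (hG : Coh.IsQCoh G) (hF : Coh.IsQCoh F) :
    Coh.IsQCoh (ext p₁ p₂ G F) :=
  haveI : G.IsQuasicoherent := hG
  haveI : F.IsQuasicoherent := hF
  haveI := FittSheaf.isQuasicoherent_pullback p₁ G
  haveI := FittSheaf.isQuasicoherent_pullback p₂ F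
  GenFlatBC9.isQuasicoherent_tens _ _

/-- The affine product opens. -/
abbrev boxes (p₁ : Z ⟶ X₁) (p₂ : Z ⟶ X₂) (q : X₁.affineOpens × X₂.affineOpens) : Z.Opens :=
  p₁ ⁻¹ᵁ q.1.1 ⊓ p₂ ⁻¹ᵁ q.2.1

include sq in
theorem isAffineOpen_boxes (q : X₁.affineOpens × X₂.affineOpens) : IsAffineOpen (boxes p₁ p₂ q) :=
  isAffineOpen_prod sq q.1.2 q.2.2

theorem exists_mem_boxes (z : Z) : ∃ q, z ∈ boxes p₁ p₂ q := by
  obtain ⟨U, hU, h1, -⟩ := exists_isAffineOpen_mem_and_subset (x := p₁ z) (U := ⊤) trivial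
  obtain ⟨V, hV, h2, -⟩ := exists_isAffineOpen_mem_and_subset (x := p₂ z) (U := ⊤) trivial
  exact ⟨(⟨U, hU⟩, ⟨V, hV⟩), h1, h2⟩

/-- The pairing on affine opens, as an isomorphism. -/
def kappaIso (G : X₁.Modules) (F : X₂.Modules) (hG : Coh.IsQCoh G) (hF : Coh.IsQCoh F) {U : X₁.Opens}
    (hU : IsAffineOpen U) {V : X₂.Opens} (hV : IsAffineOpen V) :
    (secFun f₁ U).obj G ⊗ (secFun f₂ V).obj F ≅ (secFun (p₁ ≫ f₁) (p₁ ⁻¹ᵁ U ⊓ p₂ ⁻¹ᵁ V)).obj (ext p₁ p₂ G F) :=
  (LinearEquiv.ofBijective (kappa sq G F inf_le_left inf_le_right)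
    (haveI : G.IsQuasicoherent := hG; haveI : F.IsQuasicoherent := hF
     bijective_kappa sq G F hU hV rfl)).toModuleIso

instance additive_extBi (p₁ : Z ⟶ X₁) (p₂ : Z ⟶ X₂) : (extBi p₁ p₂).Additive :=
  haveI : (Scheme.Modules.pullback p₁).Additive :=
    (Scheme.Modules.pullbackPushforwardAdjunction p₁).left_adjoint_additive
  inferInstance

instance additive_extBi_obj (p₁ : Z ⟶ X₁) (p₂ : Z ⟶ X₂) (G : X₁.Modules) : ((extBi p₁ p₂).obj G).Additive :=
  haveI : (Scheme.Modules.pullback p₂).Additive :=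
    (Scheme.Modules.pullbackPushforwardAdjunction p₂).left_adjoint_additive
  inferInstanceAs (Scheme.Modules.pullback p₂ ⋙ (DCoh.tensorBi (X := Z)).obj _).Additive

include sq in
/-- External products preserve short exact sequences with flat cokernel. -/
theorem shortExact_ext_left {S : ShortComplex X₁.Modules} (hS : S.ShortExact) (h₁ : Coh.IsQCoh S.X₁)
    (h₂ : Coh.IsQCoh S.X₂) (h₃ : Coh.IsQCoh S.X₃) (hfl : AffFlat f₁ S.X₃) (F : X₂.Modules) (hF : Coh.IsQCoh F) :
    (S.map ((extBi p₁ p₂).flip.obj F)).ShortExact := by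
  refine shortExact_of_secFun (p₁ ≫ f₁) (isQCoh_ext h₁ hF) (isQCoh_ext h₂ hF) (isQCoh_ext h₃ hF)
    (boxes p₁ p₂) (isAffineOpen_boxes sq) exists_mem_boxes fun q => ?_
  obtain ⟨⟨U, hU⟩, ⟨V, hV⟩⟩ := q
  haveI : Functor.PreservesZeroMorphisms ((curriedTensor (ModuleCat.{u} A)).obj ((secFun f₂ V).obj F)) := inferInstance
  have h := KF.tensor_left_shortExact ((secFun f₂ V).obj F) (shortExact_secFun f₁ hS h₁ hU) (hfl U hU)
  refine ShortComplex.shortExact_of_iso (ShortComplex.isoMk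
    ((β_ _ _) ≪≫ kappaIso sq S.X₁ F h₁ hF hU hV) ((β_ _ _) ≪≫ kappaIso sq S.X₂ F h₂ hF hU hV)
    ((β_ _ _) ≪≫ kappaIso sq S.X₃ F h₃ hF hU hV) ?_ ?_) h
  all_goals
    refine ConcreteCategory.hom_ext _ _ fun z => ?_
    induction z using TensorProduct.induction_on with
    | zero => simp only [map_zero]
    | add x y hx hy => simp only [map_add, hx, hy]
    | tmul t s => ?_
  · exact (kappa_natural_left sq S.X₁ F S.f inf_le_left inf_le_right (s ⊗ₜ[A] t)).symm
  · exact (kappa_natural_left sq S.X₂ F S.g inf_le_left inf_le_right (s ⊗ₜ[A] t)).symm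

include sq in
/-- External products with a flat module preserve short exact sequences. -/
theorem shortExact_ext_right {S : ShortComplex X₂.Modules} (hS : S.ShortExact) (h₁ : Coh.IsQCoh S.X₁)
    (h₂ : Coh.IsQCoh S.X₂) (h₃ : Coh.IsQCoh S.X₃) (G : X₁.Modules) (hG : Coh.IsQCoh G) (hfl : AffFlat f₁ G) :
    (S.map ((extBi p₁ p₂).obj G)).ShortExact := by
  refine shortExact_of_secFun (p₁ ≫ f₁) (isQCoh_ext hG h₁) (isQCoh_ext hG h₂) (isQCoh_ext hG h₃)
    (boxes p₁ p₂) (isAffineOpen_boxes sq) exists_mem_boxes fun q => ?_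
  obtain ⟨⟨U, hU⟩, ⟨V, hV⟩⟩ := q
  haveI : ((curriedTensor (ModuleCat.{u} A)).flip.obj ((secFun f₁ U).obj G)).PreservesZeroMorphisms :=
    { map_zero := fun _ _ => by simp }
  have h := KF.tensor_map_shortExact (F := (secFun f₁ U).obj G) (hfl U hU) (shortExact_secFun f₂ hS h₁ hV)
  refine ShortComplex.shortExact_of_iso (ShortComplex.isoMk
    ((β_ _ _) ≪≫ kappaIso sq G S.X₁ hG h₁ hU hV) ((β_ _ _) ≪≫ kappaIso sq G S.X₂ hG h₂ hU hV)
    ((β_ _ _) ≪≫ kappaIso sq G S.X₃ hG h₃ hU hV) ?_ ?_) h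
  all_goals
    refine ConcreteCategory.hom_ext _ _ fun z => ?_
    induction z using TensorProduct.induction_on with
    | zero => simp only [map_zero]
    | add x y hx hy => simp only [map_add, hx, hy]
    | tmul t s => ?_
  · exact (kappa_natural_right sq G S.X₁ S.f inf_le_left inf_le_right (s ⊗ₜ[A] t)).symm
  · exact (kappa_natural_right sq G S.X₂ S.g inf_le_left inf_le_right (s ⊗ₜ[A] t)).symm

theorem bijective_resA_pushRestr {X : Scheme.{u}} (f : X ⟶ Spec (CommRingCat.of A)) (U₀ : X.Opens) (G : X.Modules)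
    {U U' : X.Opens} (h : U' ≤ U) (h' : U ⊓ U₀ ≤ U') :
    Function.Bijective (resA f ((CechOX.pushRestr U₀).obj G) h) := by
  have e : U₀.ι ''ᵁ (U₀.ι ⁻¹ᵁ U') = U₀.ι ''ᵁ (U₀.ι ⁻¹ᵁ U) := by
    rw [Scheme.Hom.image_preimage_eq_opensRange_inf, Scheme.Hom.image_preimage_eq_opensRange_inf,
      Scheme.Opens.opensRange_ι]
    exact le_antisymm (inf_le_inf_left _ h) (le_inf inf_le_left ((inf_comm _ _).le.trans h'))
  have hle : U₀.ι ''ᵁ (U₀.ι ⁻¹ᵁ U') ≤ U₀.ι ''ᵁ (U₀.ι ⁻¹ᵁ U) := e.le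
  haveI : IsIso (homOfLE hle) := ⟨homOfLE e.ge, Subsingleton.elim _ _, Subsingleton.elim _ _⟩
  exact (ConcreteCategory.bijective_of_isIso (G.presheaf.map (homOfLE hle).op))

include sq in
/-- External products of direct images from affine opens have no higher cohomology. -/
theorem vanish_ext_pushRestr [IsAffineHom (pullback.diagonal f₁)] [IsAffineHom (pullback.diagonal f₂)] {U₀ : X₁.Opens} (hU₀ : IsAffineOpen U₀)
    {V₀ : X₂.Opens} (hV₀ : IsAffineOpen V₀) (G : X₁.Modules) (hG : Coh.IsQCoh G) (F : X₂.Modules)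
    (hF : Coh.IsQCoh F) : Cohom.VanishFrom
      (Coh.toAb (ext p₁ p₂ ((CechOX.pushRestr U₀).obj G) ((CechOX.pushRestr V₀).obj F))) ⊤ 1 := by
  haveI : IsAffineHom (pullback.diagonal (terminal.from X₁)) := AffDiag22.affineDiag_terminal f₁
  haveI : IsAffineHom (pullback.diagonal (terminal.from X₂)) := AffDiag22.affineDiag_terminal f₂
  haveI := AffDiag22.affineDiag_of_isPullback sq
  haveI := AffDiag22.affineDiag_comp p₁ f₁
  haveI : IsAffineHom (pullback.diagonal (terminal.from Z)) := AffDiag22.affineDiag_terminal (p₁ ≫ f₁)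
  haveI : IsAffine (U₀ : Scheme.{u}) := hU₀
  haveI : IsAffine (V₀ : Scheme.{u}) := hV₀
  haveI := AffDiag22.isAffineHom_of_isAffine_source U₀.ι
  haveI := AffDiag22.isAffineHom_of_isAffine_source V₀.ι
  haveI : G.IsQuasicoherent := hG
  haveI : F.IsQuasicoherent := hF
  let G' := (CechOX.pushRestr U₀).obj G
  let F' := (CechOX.pushRestr V₀).obj F
  have hG' : Coh.IsQCoh G' :=
    QCoh.isQuasicoherent_pushforward U₀.ι ((Scheme.Modules.restrictFunctor U₀.ι).obj G)
  have hF' : Coh.IsQCoh F' :=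
    QCoh.isQuasicoherent_pushforward V₀.ι ((Scheme.Modules.restrictFunctor V₀.ι).obj F)
  haveI : G'.IsQuasicoherent := hG'
  haveI : F'.IsQuasicoherent := hF'
  let H := ext p₁ p₂ G' F'
  haveI : H.IsQuasicoherent := isQCoh_ext hG' hF'
  let W₀ : Z.Opens := p₁ ⁻¹ᵁ U₀ ⊓ p₂ ⁻¹ᵁ V₀
  haveI hW₀ : IsAffine (W₀ : Scheme.{u}) := isAffineOpen_prod sq hU₀ hV₀
  haveI : IsAffineHom (W₀.ι ≫ p₁ ≫ f₁) := inferInstance
  haveI : IsAffineHom W₀.ι := AffDiag22.isAffineHom_of_isAffine_source W₀.ι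
  haveI : ((Scheme.Modules.restrictFunctor W₀.ι).obj H).IsQuasicoherent := inferInstance
  let R := (CechOX.pushRestr W₀).obj H
  haveI : R.IsQuasicoherent := QCoh.isQuasicoherent_pushforward W₀.ι ((Scheme.Modules.restrictFunctor W₀.ι).obj H)
  let η := (Scheme.Modules.restrictAdjunction W₀.ι).unit.app H
  haveI : ((𝟭 Z.Modules).obj H).IsQuasicoherent := ‹H.IsQuasicoherent›
  haveI : IsIso η := by
    refine QCoh.isIso_of_bijective_on_cover η (boxes p₁ p₂) ?_ (isAffineOpen_boxes sq) fun q => ?_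
    · exact top_le_iff.1 fun z _ => Opens.mem_iSup.2 (exists_mem_boxes z)
    obtain ⟨⟨U, hU⟩, ⟨V, hV⟩⟩ := q
    let W := p₁ ⁻¹ᵁ U ⊓ p₂ ⁻¹ᵁ V
    let W' := p₁ ⁻¹ᵁ (U ⊓ U₀) ⊓ p₂ ⁻¹ᵁ (V ⊓ V₀)
    have hW' : W' ≤ W := inf_le_inf (p₁.preimage_mono inf_le_left) (p₂.preimage_mono inf_le_left)
    have hres : Function.Bijective (resA (p₁ ≫ f₁) H hW') := by
      have hk := bijective_kappa sq G' F' hU hV (W := W) rfl
      have hk' := bijective_kappa sq G' F' (hU.inf hU₀) (hV.inf hV₀) (W := W') rfl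
      let m := TensorProduct.congr
        (LinearEquiv.ofBijective _ (bijective_resA_pushRestr f₁ U₀ G (inf_le_left : U ⊓ U₀ ≤ U) le_rfl))
        (LinearEquiv.ofBijective _ (bijective_resA_pushRestr f₂ V₀ F (inf_le_left : V ⊓ V₀ ≤ V) le_rfl))
      refine (Function.Bijective.of_comp_iff _ hk).1 ?_
      rw [show ⇑(resA (p₁ ≫ f₁) H hW') ∘ ⇑(kappa sq G' F' (inf_le_left : W ≤ p₁ ⁻¹ᵁ U) inf_le_right) =
        ⇑(kappa sq G' F' (inf_le_left : W' ≤ p₁ ⁻¹ᵁ (U ⊓ U₀)) inf_le_right) ∘ ⇑m from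
        funext fun z => kappa_res sq G' F' inf_le_left inf_le_right inf_le_left inf_le_left inf_le_left inf_le_right hW' z]
      exact hk'.comp m.bijective
    have e : W₀.ι ''ᵁ (W₀.ι ⁻¹ᵁ W) = W' := by
      rw [Scheme.Hom.image_preimage_eq_opensRange_inf, Scheme.Opens.opensRange_ι]
      show p₁ ⁻¹ᵁ U₀ ⊓ p₂ ⁻¹ᵁ V₀ ⊓ (p₁ ⁻¹ᵁ U ⊓ p₂ ⁻¹ᵁ V) = _
      rw [inf_inf_inf_comm, inf_comm (p₁ ⁻¹ᵁ U₀), inf_comm (p₂ ⁻¹ᵁ V₀)]
      rfl
    show Function.Bijective (η.app W)
    rw [Scheme.Modules.restrictAdjunction_unit_app_app]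
    haveI : IsIso (homOfLE e.ge) := ⟨homOfLE e.le, Subsingleton.elim _ _, Subsingleton.elim _ _⟩
    have hb := ConcreteCategory.bijective_of_isIso (H.presheaf.map (homOfLE e.ge).op)
    refine (Function.Bijective.of_comp_iff' hb _).1 ?_
    have hcomp : ∀ s, H.presheaf.map (homOfLE e.ge).op
        (H.presheaf.map (homOfLE (W₀.ι.image_preimage_le W)).op s) = H.presheaf.map (homOfLE hW').op s := fun s => by
      rw [← ConcreteCategory.comp_apply, ← H.presheaf.map_comp]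
      rfl
    exact Eq.mpr (congrArg Function.Bijective (funext hcomp)) hres
  intro n hn
  obtain ⟨m, rfl⟩ := Nat.exists_eq_succ_of_ne_zero (by omega : n ≠ 0)
  exact Cohom.acyclicOn_of_iso (p₁ ≫ f₁).base _ ((QCoh.toAbFun Z).mapIso (asIso η).symm)
    (Cohom.acyclicOn_pushforward W₀.ι (p₁ ≫ f₁) ((Scheme.Modules.restrictFunctor W₀.ι).obj H)) ⊤
    (isAffineOpen_top _) m

section Devissage

variable [QuasiCompact f₁] [IsAffineHom (pullback.diagonal f₁)] [QuasiCompact f₂] [IsAffineHom (pullback.diagonal f₂)]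
  {ι κ : Type u} [Fintype ι] [Fintype κ] (U : ι → X₁.Opens) (hU : ∀ i, IsAffineOpen (U i))
  (hcU : ⨆ i, U i = ⊤) (V : κ → X₂.Opens) (hV : ∀ i, IsAffineOpen (V i)) (hcV : ⨆ i, V i = ⊤)

include sq hU hV in
theorem vanish_ext_cechG (G : X₁.Modules) (hG : Coh.IsQCoh G) (F : X₂.Modules) (hF : Coh.IsQCoh F) :
    Cohom.VanishFrom (Coh.toAb (ext p₁ p₂ ((cechG U).obj G) ((cechG V).obj F))) ⊤ 1 := by
  obtain ⟨i, hi⟩ := BCAcyc22.cechG_total U G
  obtain ⟨j, hj⟩ := BCAcyc22.cechG_total V F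
  let Φ := extBi p₁ p₂
  refine BCAcyc22.vanishFrom_of_biproduct (ι := ι × κ)
    (fun q => ext p₁ p₂ ((CechOX.pushRestr (U q.1)).obj G) ((CechOX.pushRestr (V q.2)).obj F)) _
    (fun q => (Φ.map (Pi.π (fun i => (CechOX.pushRestr (U i)).obj G) q.1)).app _ ≫
      (Φ.obj _).map (Pi.π (fun i => (CechOX.pushRestr (V i)).obj F) q.2))
    (fun q => (Φ.obj _).map (j q.2) ≫ (Φ.map (i q.1)).app _) ?_ ⊤ 1 fun q =>
      vanish_ext_pushRestr sq (hU q.1) (hV q.2) G hG F hF
  refine (Fintype.sum_prod_type _).trans ?_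
  have h1 : ∀ a : ι, ∑ b : κ, ((Φ.map (Pi.π (fun i => (CechOX.pushRestr (U i)).obj G) a)).app _ ≫
      (Φ.obj _).map (Pi.π (fun i => (CechOX.pushRestr (V i)).obj F) b)) ≫
      ((Φ.obj _).map (j b) ≫ (Φ.map (i a)).app _) =
      (Φ.map (Pi.π (fun i => (CechOX.pushRestr (U i)).obj G) a)).app ((cechG V).obj F) ≫
        (Φ.map (i a)).app _ := fun a => by
    have h2 : ∑ b : κ, (Φ.obj ((CechOX.pushRestr (U a)).obj G)).map
        (Pi.π (fun i => (CechOX.pushRestr (V i)).obj F) b) ≫ (Φ.obj _).map (j b) = 𝟙 _ :=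
      (Finset.sum_congr rfl fun b _ => ((Φ.obj ((CechOX.pushRestr (U a)).obj G)).map_comp _ _).symm).trans
        (((Φ.obj ((CechOX.pushRestr (U a)).obj G)).map_sum _ _).symm.trans
          ((congrArg (Φ.obj ((CechOX.pushRestr (U a)).obj G)).map hj).trans
            ((Φ.obj ((CechOX.pushRestr (U a)).obj G)).map_id _)))
    simp only [Category.assoc]
    rw [← Preadditive.comp_sum]
    refine congrArg (_ ≫ ·) ?_
    simp only [← Category.assoc]
    refine (Preadditive.sum_comp _ _ _).symm.trans ?_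
    exact (congrArg (· ≫ _) h2).trans (Category.id_comp _)
  refine (Finset.sum_congr rfl fun a _ => h1 a).trans ?_
  let R := Φ.flip.obj ((cechG V).obj F)
  haveI : R.Additive := ⟨fun {_ _ a b} => congrArg (fun t => t.app ((cechG V).obj F)) (Φ.map_add (f := a) (g := b))⟩
  exact (Finset.sum_congr rfl fun a _ => (R.map_comp _ _).symm).trans
    ((R.map_sum _ _).symm.trans ((congrArg R.map hi).trans (R.map_id _)))

include hU hcU in
theorem shortExact_step (G : X₁.Modules) :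
    (ShortComplex.mk _ _ (cokernel.condition ((BCAcyc22.cechη U).app G))).ShortExact :=
  haveI := BCAcyc22.mono_cechη U hcU G
  { exact := ShortComplex.exact_of_g_is_cokernel _ (cokernelIsCokernel _)
    mono_f := inferInstanceAs (Mono ((BCAcyc22.cechη U).app G))
    epi_g := inferInstanceAs (Epi (cokernel.π _)) }

include sq hU hcU hV hcV in
theorem surjective_ext_app (G G' : X₁.Modules) (F F' : X₂.Modules) (a : G ⟶ G') (b : F ⟶ F')
    (hG' : Coh.IsQCoh G') (hF' : Coh.IsQCoh F') (hfl : AffFlat f₁ G')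
    (hv : Cohom.VanishFrom (Coh.toAb G') ⊤ 1) (ha : Function.Surjective (appA f₁ a ⊤))
    (hb : Function.Surjective (appA f₂ b ⊤)) :
    Function.Surjective ((((extBi p₁ p₂).map a).app F ≫ ((extBi p₁ p₂).obj G').map b).app (⊤ : Z.Opens)) := by
  haveI : G'.IsQuasicoherent := hG'
  haveI : F'.IsQuasicoherent := hF'
  haveI : IsAffineHom (pullback.diagonal (terminal.from X₁)) := AffDiag22.affineDiag_terminal f₁
  haveI : IsAffineHom (pullback.diagonal (terminal.from X₂)) := AffDiag22.affineDiag_terminal f₂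
  intro y
  obtain ⟨z, rfl⟩ := (bijective_kappa_top sq G' F' U V hcU (fun n a => IsAffineOpen.iInf fun k => hU _) hcV
    (fun n a => IsAffineOpen.iInf fun k => hV _) hfl hv).2 y
  obtain ⟨w, rfl⟩ := TensorProduct.map_surjective ha hb z
  refine ⟨kappa sq G F (W := ⊤) (U := ⊤) (V := ⊤) le_top le_top w, ?_⟩
  rw [← LinearMap.lTensor_comp_rTensor, LinearMap.comp_apply, kappa_natural_right, kappa_natural_left]
  rfl

include sq hU hcU hV hcV in
/-- **External products of modules without higher cohomology, one of them flat, have none either.** -/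
theorem vanish_ext (G : X₁.Modules) (hG : Coh.IsQCoh G) (hfl : AffFlat f₁ G)
    (hvG : Cohom.VanishFrom (Coh.toAb G) ⊤ 1) (F : X₂.Modules) (hF : Coh.IsQCoh F)
    (hvF : Cohom.VanishFrom (Coh.toAb F) ⊤ 1) : Cohom.VanishFrom (Coh.toAb (ext p₁ p₂ G F)) ⊤ 1 := by
  let s₁ := cechStep f₁ U hU hcU True
  let s₂ := cechStep f₂ V hV hcV False
  have key : ∀ (k : ℕ) (G : X₁.Modules), Coh.IsQCoh G → AffFlat f₁ G → Cohom.VanishFrom (Coh.toAb G) ⊤ 1 →
      ∀ (F : X₂.Modules), Coh.IsQCoh F → Cohom.VanishFrom (Coh.toAb F) ⊤ 1 →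
      Subsingleton (Abelian.Ext.{u} (Cohom.freeFun.obj (⊤ : Z.Opens)) (Coh.toAb (ext p₁ p₂ G F)) (k + 1)) := by
    have inner : ∀ (k : ℕ) (G : X₁.Modules), Coh.IsQCoh G → AffFlat f₁ G →
        ∀ (F : X₂.Modules), Coh.IsQCoh F → Cohom.VanishFrom (Coh.toAb F) ⊤ 1 →
        Subsingleton (Abelian.Ext.{u} (Cohom.freeFun.obj (⊤ : Z.Opens))
          (Coh.toAb (ext p₁ p₂ ((cechG U).obj G) F)) (k + 1)) := by
      intro k
      induction k with
      | zero =>
        intro G hG hfl F hF hvF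
        have hG' := s₁.P_G G ⟨hG, fun _ => hfl⟩
        have hC := s₂.P_coker F ⟨hF, fun h => h.elim⟩
        have hS := shortExact_step V hV hcV F
        have hT := shortExact_ext_right sq hS hF (BCAcyc22.isQCoh_cechG f₂ V hV F hF) hC.1 _ hG'.1 (hG'.2 trivial)
        refine vanishFrom_one_of_shortExact hT (vanish_ext_cechG sq U hU V hV G hG F hF) ?_
        have hs := surjective_ext_app sq U hU hcU V hV hcV _ _ _ _ (𝟙 ((cechG U).obj G))
          (cokernel.π ((BCAcyc22.cechη V).app F)) hG'.1 hC.1 (hG'.2 trivial) (BCAcyc22.vanish_cechG f₁ U hU G hG)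
          (fun x => ⟨x, rfl⟩) (QCoh.app_surjective_of_subsingleton hS ⊤ (hvF 1 le_rfl))
        rw [CategoryTheory.Functor.map_id, NatTrans.id_app, Category.id_comp] at hs
        exact hs
      | succ k ih =>
        intro G hG hfl F hF hvF
        have hG' := s₁.P_G G ⟨hG, fun _ => hfl⟩
        have hC := s₂.P_coker F ⟨hF, fun h => h.elim⟩
        have hS := shortExact_step V hV hcV F
        have hT := shortExact_ext_right sq hS hF (BCAcyc22.isQCoh_cechG f₂ V hV F hF) hC.1 _ hG'.1 (hG'.2 trivial)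
        exact subsingleton_succ_of_shortExact hT (vanish_ext_cechG sq U hU V hV G hG F hF)
          (ih G hG hfl _ hC.1 (s₂.van_coker F 0 ⟨hF, fun h => h.elim⟩ fun m hm => hvF m (by omega)))
    intro k
    induction k with
    | zero =>
      intro G hG hfl hvG F hF hvF
      have hC := s₁.P_coker G ⟨hG, fun _ => hfl⟩
      have hvC := s₁.van_coker G 0 ⟨hG, fun _ => hfl⟩ fun m hm => hvG m (by omega)
      have hS := shortExact_step U hU hcU G
      have hT := shortExact_ext_left sq hS hG (BCAcyc22.isQCoh_cechG f₁ U hU G hG) hC.1 (hC.2 trivial) F hF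
      refine vanishFrom_one_of_shortExact hT
        (fun m hm => by
          obtain ⟨m, rfl⟩ := Nat.exists_eq_succ_of_ne_zero (by omega : m ≠ 0)
          exact inner m G hG hfl F hF hvF) ?_
      have hs := surjective_ext_app sq U hU hcU V hV hcV _ _ _ _ (cokernel.π ((BCAcyc22.cechη U).app G)) (𝟙 F)
        hC.1 hF (hC.2 trivial) hvC (QCoh.app_surjective_of_subsingleton hS ⊤ (hvG 1 le_rfl)) (fun x => ⟨x, rfl⟩)
      rw [CategoryTheory.Functor.map_id, Category.comp_id] at hs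
      exact hs
    | succ k ih =>
      intro G hG hfl hvG F hF hvF
      have hC := s₁.P_coker G ⟨hG, fun _ => hfl⟩
      have hvC := s₁.van_coker G 0 ⟨hG, fun _ => hfl⟩ fun m hm => hvG m (by omega)
      have hS := shortExact_step U hU hcU G
      have hT := shortExact_ext_left sq hS hG (BCAcyc22.isQCoh_cechG f₁ U hU G hG) hC.1 (hC.2 trivial) F hF
      exact subsingleton_succ_of_shortExact hT
        (fun m hm => by
          obtain ⟨m, rfl⟩ := Nat.exists_eq_succ_of_ne_zero (by omega : m ≠ 0)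
          exact inner m G hG hfl F hF hvF)
        (ih _ hC.1 (hC.2 trivial) hvC F hF hvF)
  intro n hn
  obtain ⟨m, rfl⟩ := Nat.exists_eq_succ_of_ne_zero (by omega : n ≠ 0)
  exact key m G hG hfl hvG F hF hvF

end Devissage

end GrothLib.KunExt22
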